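import Cfsg.Agent.SporRec.Co3.PermFive
import Cfsg.Agent.ChevalleyStructure.WeylChain

/-!
# Homomorphisms from the symmetric group of degree five given by four Coxeter generators
-/

set_option autoImplicit false

namespace Cfsg.Agent.SporRec.Co3.FiveHom

open Cfsg.Agent.ChevalleyStructure.WeylChain Cfsg.Agent.ChevalleyStructure.WeylCert Equiv

/-- The adjacent transpositions as a table. -/
def tab (a x : ℕ) : ℕ := if x = a then (if a < 4 then a + 1 else x) else
  if x = a + 1 then (if a < 4 then a else x) else x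

/-- The Coxeter matrix as a table. -/
def mtab (a b : ℕ) : ℕ := if a = b then 1 else if b + 1 = a ∨ a + 1 = b then 3 else 2

/-- The certificate for the Coxeter group of type `A₄`. -/
def cert : Cert 4 (CoxeterMatrix.A 4) where
  P := tab
  m := mtab
  n := 5
  steps := [⟨[0], [], 1, 3⟩, ⟨[0, 1], [0], 2, 7⟩, ⟨[0, 1, 2], [0, 1], 3, 15⟩,
    ⟨[0, 1, 2, 3], [0, 1, 2], 4, 31⟩]
  out := by
    intro a ha x hx
    unfold tab
    rw [if_neg (by omega)]
    split_ifs with h1 h2
    · omega
    · rfl
  rel := by decide +kernel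
  mM a b := Nat.eq_of_beq_eq_true
    ((by decide +kernel : ∀ a b : Fin 4, Nat.beq (mtab a b) ((CoxeterMatrix.A 4) a b) = true) a b)
  chain := by decide +kernel
  gens := by decide +kernel

theorem card_W : Nat.card (CoxeterMatrix.A 4).Group = 120 := cert.card_group.trans (by decide +kernel)

/-- The Coxeter system. -/
noncomputable def cs : CoxeterSystem (CoxeterMatrix.A 4) (CoxeterMatrix.A 4).Group :=
  (CoxeterMatrix.A 4).toCoxeterSystem

theorem m_cases (i j : Fin 4) : (i = j ∧ CoxeterMatrix.A 4 i j = 1) ∨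
    ((i.val + 1 = j.val ∨ j.val + 1 = i.val) ∧ CoxeterMatrix.A 4 i j = 3) ∨
    ((i.val + 1 < j.val ∨ j.val + 1 < i.val) ∧ CoxeterMatrix.A 4 i j = 2) := by
  have h : ∀ i j : Fin 4, (i = j ∧ mtab i j = 1) ∨
    ((i.val + 1 = j.val ∨ j.val + 1 = i.val) ∧ mtab i j = 3) ∨
    ((i.val + 1 < j.val ∨ j.val + 1 < i.val) ∧ mtab i j = 2) := by decide +kernel
  have h1 := h i j
  rwa [show mtab i j = CoxeterMatrix.A 4 i j from cert.mM i j] at h1

theorem liftable {Q : Type*} [Group Q] (r : Fin 4 → Q) (h1 : ∀ i, r i * r i = 1)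
    (h2 : ∀ i j : Fin 4, i.val + 1 < j.val → r i * r j = r j * r i)
    (h3 : ∀ i j : Fin 4, i.val + 1 = j.val → r i * r j * r i = r j * r i * r j) :
    (CoxeterMatrix.A 4).IsLiftable r := by
  intro i j
  rcases m_cases i j with ⟨rfl, h⟩ | ⟨hh, h⟩ | ⟨hh, h⟩ <;> rw [h]
  · rw [pow_one, h1]
  · have hb : r i * r j * r i = r j * r i * r j := by
      rcases hh with hh | hh
      · exact h3 i j hh
      · exact (h3 j i hh).symm
    calc (r i * r j) ^ 3 = (r i * r j * r i) * (r j * r i * r j) := by
          rw [pow_succ, pow_two]; simp only [mul_assoc]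
      _ = (r j * r i * r j) * (r j * r i * r j) := by rw [hb]
      _ = r j * r i * (r j * r j) * r i * r j := by group
      _ = r j * (r i * r i) * r j := by rw [h1]; group
      _ = 1 := by rw [h1, mul_one, h1]
  · have hb : r i * r j = r j * r i := by
      rcases hh with hh | hh
      · exact h2 i j hh
      · exact (h2 j i hh).symm
    calc (r i * r j) ^ 2 = (r i * r j) * (r i * r j) := pow_two _
      _ = (r i * r j) * (r j * r i) := by rw [hb]
      _ = r i * (r j * r j) * r i := by group
      _ = 1 := by rw [h1, mul_one, h1]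

/-- The adjacent transpositions. -/
def tp (i : Fin 4) : P5 := swap i.castSucc i.succ

/-- The Coxeter group of type `A₄` acts as the symmetric group of degree five. -/
theorem exists_equiv : ∃ e : (CoxeterMatrix.A 4).Group ≃* P5, ∀ i, e (cs.simple i) = tp i := by
  have hl : (CoxeterMatrix.A 4).IsLiftable tp :=
    liftable tp (by decide +kernel) (by decide +kernel) (by decide +kernel)
  set g : (CoxeterMatrix.A 4).Group →* P5 := cs.lift ⟨tp, hl⟩ with hg
  have hgs : ∀ i, g (cs.simple i) = tp i := fun i => cs.lift_apply_simple hl i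
  have hsurj : Function.Surjective g := by
    rw [← MonoidHom.range_eq_top, eq_top_iff]
    have h1 := Equiv.Perm.mclosure_swap_castSucc_succ 4
    intro x _
    have hx : x ∈ (⊤ : Submonoid P5) := trivial
    rw [← h1] at hx
    have hle : Submonoid.closure (Set.range fun i : Fin 4 ↦ swap i.castSucc i.succ) ≤
        g.range.toSubmonoid := by
      rw [Submonoid.closure_le]
      rintro _ ⟨i, rfl⟩
      exact ⟨cs.simple i, hgs i⟩
    exact hle hx
  have hfin : Finite (CoxeterMatrix.A 4).Group :=
    Nat.finite_of_card_ne_zero (by rw [card_W]; norm_num)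
  have hbij : Function.Bijective g := by
    rw [Nat.bijective_iff_surjective_and_card]
    refine ⟨hsurj, ?_⟩
    rw [card_W, Nat.card_eq_fintype_card, Fintype.card_perm, Fintype.card_fin]
    decide
  exact ⟨MulEquiv.ofBijective g hbij, fun i => hgs i⟩

/-- **Coxeter generators give a homomorphism.** -/
theorem exists_hom {Q : Type*} [Group Q] (r : Fin 4 → Q) (h1 : ∀ i, r i * r i = 1)
    (h2 : ∀ i j : Fin 4, i.val + 1 < j.val → r i * r j = r j * r i)
    (h3 : ∀ i j : Fin 4, i.val + 1 = j.val → r i * r j * r i = r j * r i * r j) :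
    ∃ f : P5 →* Q, (∀ i, f (tp i) = r i) ∧ f.range = Subgroup.closure (Set.range r) := by
  obtain ⟨e, he⟩ := exists_equiv
  have hl := liftable r h1 h2 h3
  have hes : ∀ i, e.symm (tp i) = cs.simple i := fun i => by rw [← he, MulEquiv.symm_apply_apply]
  have hf : ∀ i, ((cs.lift ⟨r, hl⟩).comp e.symm.toMonoidHom) (tp i) = r i := by
    intro i
    rw [MonoidHom.comp_apply]
    show cs.lift ⟨r, hl⟩ (e.symm (tp i)) = r i
    rw [hes, cs.lift_apply_simple hl]
  refine ⟨(cs.lift ⟨r, hl⟩).comp e.symm.toMonoidHom, hf, ?_⟩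
  apply le_antisymm
  · rintro _ ⟨x, rfl⟩
    have hx : x ∈ (⊤ : Submonoid P5) := trivial
    rw [← Equiv.Perm.mclosure_swap_castSucc_succ 4] at hx
    have hle : Submonoid.closure (Set.range fun i : Fin 4 ↦ swap i.castSucc i.succ) ≤
        ((Subgroup.closure (Set.range r)).comap
          ((cs.lift ⟨r, hl⟩).comp e.symm.toMonoidHom)).toSubmonoid := by
      rw [Submonoid.closure_le]
      rintro _ ⟨i, rfl⟩
      show ((cs.lift ⟨r, hl⟩).comp e.symm.toMonoidHom) (tp i) ∈ Subgroup.closure (Set.range r)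
      rw [hf]
      exact Subgroup.subset_closure ⟨i, rfl⟩
    exact hle hx
  · rw [Subgroup.closure_le]
    rintro _ ⟨i, rfl⟩
    exact ⟨tp i, hf i⟩

theorem tp_zero : tp 0 = s01 := by decide +kernel
theorem tp_dbl : tp 0 * tp 2 = dbl := by decide +kernel
theorem tp_dbl' : tp 1 * dbl * tp 1 = dbl' := by decide +kernel

/-- A homomorphism which is not trivial on the double transposition is injective. -/
theorem injective_of {Q : Type*} [Group Q] (f : P5 →* Q) (hf : f dbl ≠ 1) :
    Function.Injective f := by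
  rw [injective_iff_map_eq_one]
  intro σ hσ
  have key : ∀ σ : P5, σ ≠ 1 → ∃ ρ τ : P5, τ ∈ alternatingGroup (Fin 5) ∧ τ ≠ 1 ∧
      τ = σ * ρ * σ⁻¹ * ρ⁻¹ := by
    intro σ hσ
    by_contra hne
    apply hσ
    apply central_eq_one
    intro ρ
    by_contra h
    apply hne
    refine ⟨ρ, _, ?_, ?_, rfl⟩
    · rw [Perm.mem_alternatingGroup, map_mul, map_mul, map_mul, map_inv, map_inv]
      simp [mul_comm, mul_left_comm]
    · intro h1
      apply h
      have h2 : σ * ρ = ρ * σ := by
        calc σ * ρ = (σ * ρ * σ⁻¹ * ρ⁻¹) * (ρ * σ) := by group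
          _ = ρ * σ := by rw [h1, one_mul]
      exact h2.symm
  by_contra hne
  obtain ⟨ρ, τ, hτ, hτ1, hτe⟩ := key σ hne
  have hsimple : IsSimpleGroup (alternatingGroup (Fin 5)) := alternatingGroup.isSimpleGroup_five
  have hn : ((f.comp (alternatingGroup (Fin 5)).subtype).ker).Normal := inferInstance
  rcases hn.eq_bot_or_eq_top with h | h
  · apply hτ1
    have h1 : (⟨τ, hτ⟩ : alternatingGroup (Fin 5)) ∈ (f.comp (alternatingGroup (Fin 5)).subtype).ker := by
      rw [MonoidHom.mem_ker, MonoidHom.comp_apply]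
      show f τ = 1
      rw [hτe, map_mul, map_mul, map_mul, map_inv, map_inv, hσ]
      simp
    rw [h, Subgroup.mem_bot] at h1
    exact congrArg Subtype.val h1
  · apply hf
    have hd : dbl ∈ alternatingGroup (Fin 5) := by
      rw [Perm.mem_alternatingGroup]; decide +kernel
    have h1 : (⟨dbl, hd⟩ : alternatingGroup (Fin 5)) ∈ (f.comp (alternatingGroup (Fin 5)).subtype).ker := by
      rw [h]; trivial
    rw [MonoidHom.mem_ker, MonoidHom.comp_apply] at h1
    exact h1

end Cfsg.Agent.SporRec.Co3.FiveHom
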