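import Cfsg.Agent.SporRec.TwoSp6.Lift

/-!
# Homomorphisms from groups with the relations `Rels`
-/

set_option autoImplicit false

namespace Cfsg.Agent.SporRec.Co3.RelsHom

open Cfsg.Agent.SporRec.TwoSp6.Cox Cfsg.Agent.SporRec.TwoSp6.Lift

/-- **A homomorphism from the model.** -/
theorem exists_hom {C : Type*} [Group C] {z : C} {a : Fin 7 → C} (R : Rels z a)
    (hC : Nat.card C = 2903040) {D : Type*} [Group D] {a' : Fin 7 → D} {z' : D} (hsq : ∀ i, a' i * a' i = z')
    (hz2 : z' * z' = 1) (hcomm : ∀ i j, m7 i j = 2 → a' i * a' j = z' * (a' j * a' i))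
    (hbraid : ∀ i j, m7 i j = 3 → a' i * a' j * a' i = a' j * a' i * a' j) (hcox : prod7 a' ^ 9 = 1) :
    ∃ f : C →* D, (∀ i, f (a i) = a' i) ∧ f z = z' := by
  set F : Subgroup (C × D) := Subgroup.closure (Set.range fun i => (a i, a' i)) with hF
  have hmem : ∀ i, (a i, a' i) ∈ F := fun i => Subgroup.subset_closure ⟨i, rfl⟩
  set b : Fin 7 → F := fun i => ⟨(a i, a' i), hmem i⟩ with hb
  have hzc : ∀ i, z' * a' i = a' i * z' := fun i => by rw [← hsq i, mul_assoc]
  have hzz : ∀ i, (b i * b i : F) = b 0 * b 0 := by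
    intro i
    apply Subtype.ext
    apply Prod.ext
    · show a i * a i = a 0 * a 0
      rw [R.sq, R.sq]
    · show a' i * a' i = a' 0 * a' 0
      rw [hsq, hsq]
  have hzv : ((b 0 * b 0 : F) : C × D) = (z, z') := by
    apply Prod.ext
    · exact R.sq 0
    · exact hsq 0
  have hgen : Subgroup.closure (Set.range b) = ⊤ := by
    rw [eq_top_iff]
    rintro ⟨x, hx⟩ -
    rw [hF] at hx
    have key : ∀ y (hy : y ∈ Subgroup.closure (Set.range fun i => (a i, a' i))),
        (⟨y, hF ▸ hy⟩ : F) ∈ Subgroup.closure (Set.range b) := by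
      intro y hy
      induction hy using Subgroup.closure_induction with
      | one => exact one_mem _
      | mem y hy =>
        obtain ⟨i, rfl⟩ := hy
        exact Subgroup.subset_closure ⟨i, rfl⟩
      | mul x y hx hy ihx ihy => exact mul_mem ihx ihy
      | inv x hx ihx => exact inv_mem ihx
    exact key x hx
  have RF : Rels (b 0 * b 0) b := by
    refine ⟨?_, ?_, ?_, hzz, ?_, ?_, ?_, hgen⟩
    · intro h
      have h1 := congrArg Subtype.val h
      rw [hzv] at h1
      exact R.z_ne (congrArg Prod.fst h1)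
    · apply Subtype.ext
      rw [Subgroup.coe_mul, hzv]
      exact Prod.ext R.z_sq hz2
    · intro g
      have hle : (⊤ : Subgroup F) ≤ Subgroup.centralizer {b 0 * b 0} := by
        rw [← hgen, Subgroup.closure_le]
        rintro _ ⟨i, rfl⟩
        rw [SetLike.mem_coe, Subgroup.mem_centralizer_singleton_iff]
        apply Subtype.ext
        rw [Subgroup.coe_mul F (b i), Subgroup.coe_mul F (b 0 * b 0), hzv]
        exact Prod.ext (R.z_comm _).symm (hzc i).symm
      exact (Subgroup.mem_centralizer_singleton_iff.1 (hle (Subgroup.mem_top g))).symm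
    · intro i j hij
      apply Subtype.ext
      rw [Subgroup.coe_mul F (b 0 * b 0), hzv]
      exact Prod.ext (R.comm i j hij) (hcomm i j hij)
    · intro i j hij
      apply Subtype.ext
      exact Prod.ext (R.braid i j hij) (hbraid i j hij)
    · apply Subtype.ext
      have e : ((prod7 b ^ 9 : F) : C × D) = (prod7 a ^ 9, prod7 a' ^ 9) := rfl
      rw [e, R.cox, hcox]; rfl
  obtain ⟨fF, cF⟩ := RF.card_le
  set p1 : F →* C := (MonoidHom.fst C D).comp F.subtype with hp1
  have s1 : Function.Surjective p1 := by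
    rw [← MonoidHom.range_eq_top, eq_top_iff, ← R.gen, Subgroup.closure_le]
    rintro _ ⟨i, rfl⟩
    exact ⟨b i, rfl⟩
  have c1 : Nat.card F = Nat.card C :=
    le_antisymm (by rw [hC]; exact cF) (Nat.card_le_card_of_surjective p1 s1)
  have b1 : Function.Bijective p1 := (Nat.bijective_iff_surjective_and_card p1).2 ⟨s1, c1⟩
  let e1 : F ≃* C := MulEquiv.ofBijective p1 b1
  have ha : ∀ i, e1.symm (a i) = b i := by
    intro i
    rw [MulEquiv.symm_apply_eq]; rfl
  refine ⟨((MonoidHom.snd C D).comp F.subtype).comp e1.symm.toMonoidHom, fun i => ?_, ?_⟩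
  · show ((e1.symm (a i) : F) : C × D).2 = a' i
    rw [ha]
  · have hzb : e1.symm z = b 0 * b 0 := by
      rw [MulEquiv.symm_apply_eq]
      exact (R.sq 0).symm
    show ((e1.symm z : F) : C × D).2 = z'
    rw [hzb, hzv]


end Cfsg.Agent.SporRec.Co3.RelsHom
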