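import Cfsg.Agent.SporRec.Co3.Chain
import Cfsg.Agent.SporRec.Co3DC.Rel
import Cfsg.Agent.SporRec.Co3.RelsHom
import Cfsg.Agent.S0397

/-!
# The third Conway group satisfies the relations between `2·Sp₆(2)` and the element `w`

Main results: `phi0 : M →* G3`, `W0 : G3`, `wrel0 : WRel phi0 W0 1 1`, `closure_top`, `ident` (uniqueness, given the
upper bound for the order).
-/

set_option autoImplicit false
set_option maxHeartbeats 400000

namespace Cfsg.Agent.SporRec.Co3.Ident

open Cfsg Cfsg.Agent.Lib.PackMat Cfsg.Agent.SporRec.LeechMod3 Cfsg.Agent.SporRec.LeechChain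
  Cfsg.Agent.SporRec.Co3.MatData Cfsg.Agent.SporRec.Co3.ChainData Cfsg.Agent.SporRec.Co3.Chain
open Cfsg.Agent.SporRec.TwoSp6.Cox Cfsg.Agent.SporRec.TwoSp6.Lift Cfsg.Agent.SporRec.TwoSp6.Model
open Cfsg.Agent.SporRec.TwoSp6.Order (card_M map_wv)
open Cfsg.Agent.SporRec.Co3DC

/-! ### words -/

/-- letters: `0 … 6` the elements `a i`, `7` the element `z`, `8` the element `w` -/
def lt8 {G : Type*} (a : Fin 7 → G) (z w : G) (k : ℕ) : G := if k = 8 then w else lt a z k

/-- value of a word with the letters `0 … 8` -/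
def mw {G : Type*} [Group G] (a : Fin 7 → G) (z w : G) (l : List ℕ) : G := (l.map (lt8 a z w)).prod

section

variable {G : Type*} [Group G] (a : Fin 7 → G) (z w : G)

theorem mw_append (u v : List ℕ) : mw a z w (u ++ v) = mw a z w u * mw a z w v := by
  unfold mw; rw [List.map_append, List.prod_append]

theorem mw_cons (k : ℕ) (v : List ℕ) : mw a z w (k :: v) = lt8 a z w k * mw a z w v := by
  unfold mw; rw [List.map_cons, List.prod_cons]

theorem mw_nil : mw a z w [] = 1 := rfl

theorem mw_w : mw a z w [8] = w := by rw [mw_cons, mw_nil, mul_one]; rfl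

theorem mw_z : mw a z w [7] = z := by rw [mw_cons, mw_nil, mul_one]; rfl

theorem mw_a (i : Fin 7) : mw a z w [(i : ℕ)] = a i := by
  rw [mw_cons, mw_nil, mul_one]; revert i
  intro i; fin_cases i <;> rfl

/-- words without the letter `8` -/
theorem mw_wv {u : List ℕ} (h : (u.all fun k => Nat.ble k 7) = true) : mw a z w u = wv a z u := by
  induction u with
  | nil => rfl
  | cons k u ih =>
    rw [List.all_cons, Bool.and_eq_true] at h
    rw [mw_cons, wv_cons, ih h.2]
    congr 1
    have := Nat.le_of_ble_eq_true h.1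
    unfold lt8
    rw [if_neg (by omega)]

theorem map_mw {H : Type*} [Group H] (e : G →* H) (l : List ℕ) :
    e (mw a z w l) = mw (fun i => e (a i)) (e z) (e w) l := by
  induction l with
  | nil => rw [mw_nil, mw_nil, map_one]
  | cons k l ih =>
    rw [mw_cons, mw_cons, map_mul, ih]
    congr 1
    unfold lt8 lt
    split_ifs <;> rfl

end

/-! ### the elements -/

theorem card_co0 : Nat.card Co0 = 8315553613086720000 := Cfsg.Agent.S0397.result

instance finite_co0 : Finite Co0 :=
  Nat.finite_of_card_ne_zero (by rw [card_co0]; norm_num)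

/-- the eight elements -/
noncomputable def el (i : ℕ) : Co0 := if h : i < 8 then Classical.choose (exists_el i h) else 1

theorem el_spec (i : ℕ) (hi : i < 8) : el i ∈ G3 ∧ okG cfg (gs0.getD i 0) = true ∧
    rho (el i) = mt (gs0.getD i 0) := by
  unfold el
  rw [dif_pos hi]
  exact Classical.choose_spec (exists_el i hi)

/-- the generators of `2·Sp₆(2)` -/
noncomputable def A (i : Fin 7) : G3 := ⟨el i, (el_spec i (by omega)).1⟩

/-- the central involution -/
noncomputable def Z : G3 := A 0 * A 0

/-- the element of order three -/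
noncomputable def W0 : G3 := ⟨el 7, (el_spec 7 (by omega)).1⟩

/-- expansion of letters -/
def exl (k : ℕ) : List ℕ := if k < 7 then [k] else if k = 8 then [7] else [0, 0]

theorem coe_mw (l : List ℕ) : ((mw A Z W0 l : G3) : Co0) = ((l.flatMap exl).map el).prod := by
  induction l with
  | nil => rfl
  | cons k l ih =>
    rw [mw_cons, Subgroup.coe_mul, ih, List.flatMap_cons, List.map_append, List.prod_append]
    congr 1
    unfold lt8 lt exl
    by_cases h8 : k = 8
    · subst h8
      simp [W0]
    · rw [if_neg h8]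
      by_cases h7 : k < 7
      · rw [if_pos h7]
        interval_cases k <;> simp [A]
      · rw [if_neg h7, if_neg h8]
        rw [if_neg (by omega), if_neg (by omega), if_neg (by omega), if_neg (by omega), if_neg (by omega),
          if_neg (by omega), if_neg (by omega)]
        simp [Z, A]

/-- the kernel check of an identity of words -/
noncomputable def chk (u v : List ℕ) : Bool :=
  wok gs0 (u.flatMap exl) && wok gs0 (v.flatMap exl) &&
    checkEq cfg (wmats gs0 (u.flatMap exl)) (wmats gs0 (v.flatMap exl)) 0 24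

/-- **Identities of words are kernel checks.** -/
theorem mw_eq {u v : List ℕ} (h : chk u v = true) : mw A Z W0 u = mw A Z W0 v := by
  apply Subtype.ext
  rw [coe_mw, coe_mw]
  exact word_eq (gs := gs0) (g := el) (fun k hk => (el_spec k hk).2) h

theorem chk_ne : Nat.beq (run cfg (wmats gs0 [0, 0]) V4) V4 = false := by decide +kernel

theorem Z_ne : Z ≠ 1 := by
  intro h
  have h1 := congrArg Subtype.val h
  have h2 : (([0, 0] : List ℕ).map el).prod = 1 := by
    rw [List.map_cons, List.map_cons, List.map_nil, List.prod_cons, List.prod_cons, List.prod_nil, mul_one]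
    exact h1
  exact word_ne_one (gs := gs0) (g := el) (fun k hk => (el_spec k hk).2) (by decide) (okR_of row4) chk_ne h2

/-! ### the relations of `2·Sp₆(2)` -/

theorem A_sq (i : Fin 7) : A i * A i = Z := by
  have h : ∀ i : Fin 7, chk [(i : ℕ), (i : ℕ)] [7] = true := by decide +kernel
  have h1 := mw_eq (h i)
  rwa [mw_z, mw_cons, mw_a, show lt8 A Z W0 (i : ℕ) = A i by fin_cases i <;> rfl] at h1

theorem lt8_A (i : Fin 7) : lt8 A Z W0 (i : ℕ) = A i := by fin_cases i <;> rfl

theorem A_comm (i j : Fin 7) (hij : m7 i j = 2) : A i * A j = Z * (A j * A i) := by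
  have h : ∀ i j : Fin 7, m7 i j = 2 → chk [(i : ℕ), (j : ℕ)] [7, (j : ℕ), (i : ℕ)] = true := by
    decide +kernel
  have h1 := mw_eq (h i j hij)
  rw [mw_cons, mw_a, mw_cons, mw_cons, mw_a, lt8_A, lt8_A] at h1
  exact h1

theorem A_braid (i j : Fin 7) (hij : m7 i j = 3) : A i * A j * A i = A j * A i * A j := by
  have h : ∀ i j : Fin 7, m7 i j = 3 → chk [(i : ℕ), (j : ℕ), (i : ℕ)] [(j : ℕ), (i : ℕ), (j : ℕ)] = true := by
    decide +kernel
  have h1 := mw_eq (h i j hij)
  rw [mw_cons, mw_cons, mw_a, mw_cons, mw_cons, mw_a, lt8_A, lt8_A] at h1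
  rw [mul_assoc, mul_assoc]
  exact h1

theorem mw_seven : mw A Z W0 [0, 1, 2, 3, 4, 5, 6] = prod7 A := by
  rw [mw_cons, mw_cons, mw_cons, mw_cons, mw_cons, mw_cons, mw_cons, mw_nil, mul_one]
  unfold prod7
  rw [show lt8 A Z W0 0 = A 0 from rfl, show lt8 A Z W0 1 = A 1 from rfl,
    show lt8 A Z W0 2 = A 2 from rfl, show lt8 A Z W0 3 = A 3 from rfl,
    show lt8 A Z W0 4 = A 4 from rfl, show lt8 A Z W0 5 = A 5 from rfl,
    show lt8 A Z W0 6 = A 6 from rfl]
  simp only [mul_assoc]

theorem A_cox : prod7 A ^ 9 = 1 := by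
  have h : chk (List.replicate 9 [0, 1, 2, 3, 4, 5, 6]).flatten [] = true := by decide +kernel
  have h1 := mw_eq h
  have h2 : ∀ n : ℕ, mw A Z W0 (List.replicate n [0, 1, 2, 3, 4, 5, 6]).flatten = prod7 A ^ n := by
    intro n
    induction n with
    | zero => rfl
    | succ n ih => rw [List.replicate_succ, List.flatten_cons, mw_append, ih, pow_succ', mw_seven]
  rw [h2, mw_nil] at h1
  exact h1

theorem Z_sq : Z * Z = 1 := by
  have h : chk [7, 7] [] = true := by decide +kernel
  have h1 := mw_eq h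
  rwa [mw_cons, mw_z, mw_nil] at h1

theorem exists_phi0 : ∃ f : M →* G3, (∀ i, f (gen i) = A i) ∧ f z = Z :=
  RelsHom.exists_hom rels card_M A_sq Z_sq A_comm A_braid A_cox

/-- the embedding of the model of `2·Sp₆(2)` -/
noncomputable def phi0 : M →* G3 := Classical.choose exists_phi0

theorem phi0_gen (i : Fin 7) : phi0 (gen i) = A i := (Classical.choose_spec exists_phi0).1 i

theorem phi0_z : phi0 z = Z := (Classical.choose_spec exists_phi0).2

theorem phi0_wv (l : List ℕ) : phi0 (wv gen z l) = wv A Z l := map_wv phi0 phi0_gen phi0_z l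

theorem wv_A {u : List ℕ} (h : (u.all fun k => Nat.ble k 7) = true) : wv A Z u = mw A Z W0 u :=
  (mw_wv A Z W0 h).symm

/-- **The relations.** -/
theorem wrel0 : WRel phi0 W0 1 1 := by
  have eb : phi0 (W bW) = mw A Z W0 bW := (phi0_wv _).trans (wv_A (by decide))
  have ee1 : phi0 (W e1W) = mw A Z W0 e1W := (phi0_wv _).trans (wv_A (by decide))
  have ey : phi0 (W yW) = mw A Z W0 yW := (phi0_wv _).trans (wv_A (by decide))
  have ex : phi0 (W xW) = mw A Z W0 xW := (phi0_wv _).trans (wv_A (by decide))
  have ek : phi0 (W kW) = mw A Z W0 kW := (phi0_wv _).trans (wv_A (by decide))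
  have es : phi0 (W sW) = mw A Z W0 sW := (phi0_wv _).trans (wv_A (by decide))
  have en : phi0 (W nW) = mw A Z W0 nW := (phi0_wv _).trans (wv_A (by decide))
  have em : phi0 (W mW) = mw A Z W0 mW := (phi0_wv _).trans (wv_A (by decide))
  have em2 : phi0 (W m2W) = mw A Z W0 m2W := (phi0_wv _).trans (wv_A (by decide))
  have ew : W0 = mw A Z W0 [8] := (mw_w A Z W0).symm
  have ez : Z = mw A Z W0 [7] := (mw_z A Z W0).symm
  refine ⟨?_, ?_, ?_, ?_, ?_, ?_, ?_, ?_, ?_⟩
  · have h := mw_eq (u := [8, 8, 8]) (v := []) (by decide +kernel)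
    rw [mw_cons, mw_cons, mw_w, mw_nil] at h
    rw [mul_assoc]; exact h
  · rw [phi0_z, eb]
    have h := mw_eq (u := [7] ++ [8]) (v := [8] ++ bW) (by decide +kernel)
    rwa [mw_append, mw_append, mw_w, mw_z] at h
  · rw [map_mul, phi0_z, eb]
    have h := mw_eq (u := bW ++ [8]) (v := [8] ++ ([7] ++ bW)) (by decide +kernel)
    rwa [mw_append, mw_append, mw_append, mw_w, mw_z] at h
  · rw [ee1]
    have h := mw_eq (u := e1W ++ [8]) (v := [8] ++ e1W) (by decide +kernel)
    rwa [mw_append, mw_append, mw_w] at h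
  · rw [ey]
    have h := mw_eq (u := yW ++ [8]) (v := [8] ++ yW) (by decide +kernel)
    rwa [mw_append, mw_append, mw_w] at h
  · rw [map_mul, ex, ey]
    have h := mw_eq (u := xW ++ [8]) (v := [8] ++ (xW ++ yW)) (by decide +kernel)
    rwa [mw_append, mw_append, mw_append, mw_w] at h
  · rw [mul_one, ek]
    have h := mw_eq (u := kW ++ [8]) (v := [8] ++ kW) (by decide +kernel)
    rwa [mw_append, mw_append, mw_w] at h
  · rw [es, eq_inv_mul_iff_mul_eq]
    have h := mw_eq (u := [8] ++ (sW ++ [8])) (v := sW) (by decide +kernel)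
    rwa [mw_append, mw_append, mw_w] at h
  · rw [one_mul, en, em, em2]
    have h := mw_eq (u := [8] ++ (nW ++ [8])) (v := mW ++ ([8] ++ m2W)) (by decide +kernel)
    rw [mw_append, mw_append, mw_append, mw_append, mw_w] at h
    rw [mul_assoc, mul_assoc]
    exact h

/-! ### generation -/

/-- **The elements generate the third Conway group.** -/
theorem closure_top : Subgroup.closure (Set.range A ∪ {W0}) = ⊤ := by
  set K : Subgroup Co0 := (Subgroup.closure (Set.range A ∪ {W0})).map G3.subtype with hK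
  have hel : ∀ i < 8, el i ∈ K := by
    intro i hi
    by_cases h7 : i = 7
    · subst h7
      exact ⟨W0, Subgroup.subset_closure (Or.inr rfl), rfl⟩
    · exact ⟨A ⟨i, by omega⟩, Subgroup.subset_closure (Or.inl ⟨_, rfl⟩), rfl⟩
  have h0 : ∀ c ∈ gs0, HasCode K c := by
    intro c hc
    obtain ⟨i, hi, rfl⟩ := List.getElem_of_mem hc
    have hi' : i < 8 := hi
    have h1 := el_spec i hi'
    rw [List.getD_eq_getElem _ _ hi] at h1
    exact ⟨h1.2.1, el i, hel i hi', h1.2.2⟩
  have h1 := card_ge h0
  have h2 : Nat.card K = Nat.card (Subgroup.closure (Set.range A ∪ {W0})) :=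
    (Nat.card_congr (Subgroup.equivMapOfInjective _ G3.subtype Subtype.val_injective).toEquiv).symm
  rw [h2, ← isCo3_G3.2] at h1
  exact Subgroup.eq_top_of_le_card _ h1

end Cfsg.Agent.SporRec.Co3.Ident
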