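import Cfsg.Agent.SporRec.Co3.FiveG3
import Cfsg.Agent.SporRec.Co3DC.Bound

/-!
# The recognition theorem of the third Conway group: final assembly
-/

set_option autoImplicit false

namespace Cfsg.Agent.SporRec.Co3.Model

open Cfsg Cfsg.Agent.SporRec.TwoSp6.Model Cfsg.Agent.SporRec.Co3DC Cfsg.Agent.SporRec.Co3.Chain
  Cfsg.Agent.SporRec.Co3.Ident Cfsg.Agent.SporRec.Co3.IsoFib

theorem gp_top : gp phi0 W0 = ⊤ := by
  rw [eq_top_iff, ← closure_top, Subgroup.closure_le]
  rintro x (⟨i, rfl⟩ | hx)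
  · rw [← phi0_gen]
    exact mem_left _ _ _
  · rw [Set.mem_singleton_iff.1 hx]
    exact mem_right _ _

/-- The two versions of the third Conway group. -/
theorem map_G3 : G3.map Co0.subtype = Spor.Co3 := by
  ext g
  constructor
  · rintro ⟨x, hx, rfl⟩
    refine ⟨x.2, ?_⟩
    exact hx
  · rintro ⟨h1, h2⟩
    exact ⟨⟨g, h1⟩, h2, rfl⟩

/-- The isomorphism. -/
noncomputable def equivCo3 : G3 ≃* Spor.Co3 :=
  (Subgroup.equivMapOfInjective G3 Co0.subtype Subtype.val_injective).trans (MulEquiv.subgroupCongr map_G3)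

/-- **The recognition theorem.** -/
theorem isoCo3 {G : Type*} [Group G] [Finite G] (hO : Cfsg.oddCore G = ⊥) (hZ : Subgroup.center G = ⊥)
    (t : G) (ht : orderOf t = 2)
    (hC : Cfsg.IsNonsplitDoubleCover (Subgroup.centralizer ({t} : Set G))
      (Matrix.symplecticGroup (Fin 3) (ZMod 2))) : Cfsg.Spor.IsoCo3 G := by
  have : IsSimpleGroup G3 := isCo3_G3.1
  obtain ⟨e⟩ := Assemble.exists_equiv wrel0 gp_top isCo3_G3.2 FiveG3.exists_five
    (fun X _ ψ x h => Bound.card_le ψ x h) hO hZ t ht hC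
  exact ⟨e.trans equivCo3⟩

end Cfsg.Agent.SporRec.Co3.Model
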