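import Cfsg.Agent.SporRec.Co3.Free
import Cfsg.Agent.SporRec.MaxFix

/-!
# The maximal 2-subgroups without 2-central involutions are conjugate
-/

set_option autoImplicit false

namespace Cfsg.Agent.SporRec.Co3

open Matrix

/-- A maximal 2-subgroup without elements of `Z`. -/
structure MF {K : Type*} [Group K] (Z : K → Prop) (S : Subgroup K) : Prop where
  p : IsPGroup 2 S
  free : ∀ x ∈ S, ¬ Z x
  max : ∀ R : Subgroup K, IsPGroup 2 R → S ≤ R → (∀ x ∈ R, ¬ Z x) → R = S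

/-- The frame of elements. -/
structure Frame {K : Type*} [Group K] (π : K →* Sp) (y u d : K) : Prop where
  hy : (π y : M6) = U 1
  hu : (π u : M6) = U M0
  hd : (π d : M6) = U M1

variable {K : Type*} [Group K] {π : K →* Sp} {t : K} {Z : K → Prop}

theorem MF.conj (hZ : ∀ x c, Z x → Z (c * x * c⁻¹)) {S : Subgroup K} (hS : MF Z S) (c : K) :
    MF Z (S.map (MulAut.conj c).toMonoidHom) := by
  refine ⟨hS.p.map _, ?_, ?_⟩
  · rintro _ ⟨s, hs, rfl⟩ hz
    have := hZ _ c⁻¹ hz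
    apply hS.free s hs
    simpa [mul_assoc] using this
  · intro R hR hSR hRf
    have h1 : R.map (MulAut.conj c⁻¹).toMonoidHom = S := by
      apply hS.max _ (hR.map _)
      · intro s hs
        exact ⟨c * s * c⁻¹, hSR ⟨s, hs, by simp⟩, by simp [mul_assoc]⟩
      · rintro _ ⟨s, hs, rfl⟩ hz
        have := hZ _ c hz
        apply hRf s hs
        simpa [mul_assoc] using this
    rw [← h1]
    ext x
    constructor
    · intro hx
      exact ⟨c⁻¹ * x * c, ⟨x, hx, by simp⟩, by simp [mul_assoc]⟩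
    · rintro ⟨_, ⟨r, hr, rfl⟩, rfl⟩
      simpa [mul_assoc] using hr

/-- The list of the seven nonzero elements of the field. -/
def fld : List M3 := [1, M0, M0 + 1, M1, M1 + 1, M1 + M0, M1 + (M0 + 1)]

theorem fld_conj : ∀ M ∈ fld, ∃ P ∈ fld, ∃ Q ∈ fld, P * Qᵀ = 1 ∧ P * M * Pᵀ = 1 := by decide +kernel

theorem fld_symm : ∀ M ∈ fld, M.IsSymm := by decide +kernel

namespace KData

variable (h : KData π t Z)

include h

theorem not_Z_fld {x : K} {M : M3} (hM : M ∈ fld) (hx : (π x : M6) = U M) : ¬ Z x := by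
  obtain ⟨P, -, Q, -, h1, h2⟩ := fld_conj M hM
  exact h.not_Z h1 h2 hx

variable {y u d : K}

theorem sq_one {x : K} {M : M3} (hM : M.IsSymm) (hx : (π x : M6) = U M) (hq : q M = 0) :
    x * x = 1 := by
  have := h.sq x M hM hx
  rwa [if_pos hq] at this

theorem comm_of {x z : K} {M N : M3} (hM : M.IsSymm) (hN : N.IsSymm) (hx : (π x : M6) = U M)
    (hz : (π z : M6) = U N) (hb : bq M N = 0) : x * z = z * x := by
  have := h.comm_eq hM hN hx hz
  rwa [if_pos hb] at this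

theorem frame_comm (hF : Frame π y u d) :
    y * u = u * y ∧ y * d = d * y ∧ u * d = d * u ∧ y * y = 1 ∧ u * u = 1 ∧ d * d = 1 := by
  have s1 : (1 : M3).IsSymm := transpose_one
  exact ⟨h.comm_of s1 M0_symm hF.hy hF.hu (by decide), h.comm_of s1 M1_symm hF.hy hF.hd (by decide),
    h.comm_of M0_symm M1_symm hF.hu hF.hd (by decide), h.sq_one s1 hF.hy (by decide),
    h.sq_one M0_symm hF.hu (by decide), h.sq_one M1_symm hF.hd (by decide)⟩

end KData

/-- The subgroup generated by the frame, with explicit elements. -/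
def frameGroup (y u d : K) (hyu : y * u = u * y) (hyd : y * d = d * y) (hud : u * d = d * u)
    (hyy : y * y = 1) (huu : u * u = 1) (hdd : d * d = 1) : Subgroup K where
  carrier := {x | ∃ i j k : ℕ, x = y ^ i * u ^ j * d ^ k}
  one_mem' := ⟨0, 0, 0, by simp⟩
  mul_mem' := by
    rintro _ _ ⟨i, j, k, rfl⟩ ⟨i', j', k', rfl⟩
    refine ⟨i + i', j + j', k + k', ?_⟩
    have cyu : Commute y u := hyu
    have cyd : Commute y d := hyd
    have cud : Commute u d := hud
    rw [pow_add, pow_add, pow_add]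
    have e1 : Commute (u ^ j * d ^ k) (y ^ i') :=
      (cyu.symm.pow_pow j i').mul_left (cyd.symm.pow_pow k i')
    have e2 : Commute (d ^ k) (u ^ j') := cud.symm.pow_pow k j'
    calc y ^ i * u ^ j * d ^ k * (y ^ i' * u ^ j' * d ^ k')
        = y ^ i * ((u ^ j * d ^ k) * y ^ i') * u ^ j' * d ^ k' := by group
      _ = y ^ i * (y ^ i' * (u ^ j * d ^ k)) * u ^ j' * d ^ k' := by rw [e1.eq]
      _ = y ^ i * y ^ i' * u ^ j * (d ^ k * u ^ j') * d ^ k' := by group
      _ = y ^ i * y ^ i' * u ^ j * (u ^ j' * d ^ k) * d ^ k' := by rw [e2.eq]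
      _ = _ := by group
  inv_mem' := by
    rintro _ ⟨i, j, k, rfl⟩
    refine ⟨i, j, k, ?_⟩
    have cyu : Commute y u := hyu
    have cyd : Commute y d := hyd
    have cud : Commute u d := hud
    apply inv_eq_of_mul_eq_one_right
    have e1 : Commute (u ^ j * d ^ k) (y ^ i) :=
      (cyu.symm.pow_pow j i).mul_left (cyd.symm.pow_pow k i)
    have e2 : Commute (d ^ k) (u ^ j) := cud.symm.pow_pow k j
    have p2 : ∀ (a : K) (n : ℕ), a * a = 1 → a ^ n * a ^ n = 1 := by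
      intro a n ha
      rw [← pow_two, ← pow_mul, mul_comm n 2, pow_mul, pow_two, ha, one_pow]
    calc y ^ i * u ^ j * d ^ k * (y ^ i * u ^ j * d ^ k)
        = y ^ i * ((u ^ j * d ^ k) * y ^ i) * u ^ j * d ^ k := by group
      _ = y ^ i * (y ^ i * (u ^ j * d ^ k)) * u ^ j * d ^ k := by rw [e1.eq]
      _ = y ^ i * y ^ i * u ^ j * (d ^ k * u ^ j) * d ^ k := by group
      _ = y ^ i * y ^ i * u ^ j * (u ^ j * d ^ k) * d ^ k := by rw [e2.eq]
      _ = (y ^ i * y ^ i) * (u ^ j * u ^ j) * (d ^ k * d ^ k) := by group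
      _ = 1 := by rw [p2 y i hyy, p2 u j huu, p2 d k hdd]; simp

theorem fld_dt : ∀ M ∈ fld, dt M = 1 := by decide +kernel

theorem fld_q : ∀ M ∈ fld, q M = 0 := by decide +kernel

theorem add_self (M : M3) : M + M = 0 := by
  ext i j; exact CharTwo.add_self_eq_zero _

namespace KData

variable (h : KData π t Z) {y u d : K}

include h

/-- The frame group. -/
def fg (hF : Frame π y u d) : Subgroup K :=
  frameGroup y u d (h.frame_comm hF).1 (h.frame_comm hF).2.1 (h.frame_comm hF).2.2.1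
    (h.frame_comm hF).2.2.2.1 (h.frame_comm hF).2.2.2.2.1 (h.frame_comm hF).2.2.2.2.2

theorem mem_fg (hF : Frame π y u d) {x : K} :
    x ∈ h.fg hF ↔ ∃ i j k : ℕ, x = y ^ i * u ^ j * d ^ k := Iff.rfl

theorem y_mem (hF : Frame π y u d) : y ∈ h.fg hF := (h.mem_fg hF).mpr ⟨1, 0, 0, by simp⟩
theorem u_mem (hF : Frame π y u d) : u ∈ h.fg hF := (h.mem_fg hF).mpr ⟨0, 1, 0, by simp⟩
theorem d_mem (hF : Frame π y u d) : d ∈ h.fg hF := (h.mem_fg hF).mpr ⟨0, 0, 1, by simp⟩

theorem pow_cases {a : K} (ha : a * a = 1) (n : ℕ) : a ^ n = 1 ∨ a ^ n = a := by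
  rcases Nat.even_or_odd' n with ⟨k, hk | hk⟩
  · left; rw [hk, pow_mul, pow_two, ha, one_pow]
  · right; rw [hk, pow_add, pow_mul, pow_two, ha, one_pow, one_mul, pow_one]

theorem U_mul_eq {x z : K} {M N : M3} (hx : (π x : M6) = U M) (hz : (π z : M6) = U N) :
    (π (x * z) : M6) = U (M + N) := by
  rw [map_mul]
  show (π x : M6) * (π z : M6) = _
  rw [hx, hz, U_mul]

theorem fg_form (hF : Frame π y u d) {x : K} (hx : x ∈ h.fg hF) :
    x = 1 ∨ ∃ M ∈ fld, (π x : M6) = U M := by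
  obtain ⟨i, j, k, rfl⟩ := (h.mem_fg hF).mp hx
  obtain ⟨-, -, -, hyy, huu, hdd⟩ := h.frame_comm hF
  rcases h.pow_cases hyy i with hi | hi <;> rcases h.pow_cases huu j with hj | hj <;>
    rcases h.pow_cases hdd k with hk | hk <;> rw [hi, hj, hk]
  · left; simp
  · right; exact ⟨M1, by decide, by simpa using hF.hd⟩
  · right; exact ⟨M0, by decide, by simpa using hF.hu⟩
  · right
    refine ⟨M1 + M0, by decide, ?_⟩
    rw [one_mul, h.U_mul_eq hF.hu hF.hd, add_comm]
  · right; exact ⟨1, by decide, by simpa using hF.hy⟩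
  · right
    refine ⟨M1 + 1, by decide, ?_⟩
    rw [mul_one, h.U_mul_eq hF.hy hF.hd, add_comm]
  · right
    refine ⟨M0 + 1, by decide, ?_⟩
    rw [mul_one, h.U_mul_eq hF.hy hF.hu, add_comm]
  · right
    refine ⟨M1 + (M0 + 1), by decide, ?_⟩
    rw [h.U_mul_eq (h.U_mul_eq hF.hy hF.hu) hF.hd, add_comm, add_comm 1 M0]

theorem exists_fg (hF : Frame π y u d) {M : M3} (hM : M ∈ fld) :
    ∃ f ∈ h.fg hF, (π f : M6) = U M := by
  have hy := h.y_mem hF
  have hu := h.u_mem hF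
  have hd := h.d_mem hF
  have e1 := hF.hy
  have e2 := hF.hu
  have e3 := hF.hd
  simp only [fld, List.mem_cons, List.not_mem_nil, or_false] at hM
  rcases hM with rfl | rfl | rfl | rfl | rfl | rfl | rfl
  · exact ⟨y, hy, e1⟩
  · exact ⟨u, hu, e2⟩
  · exact ⟨u * y, mul_mem hu hy, h.U_mul_eq e2 e1⟩
  · exact ⟨d, hd, e3⟩
  · exact ⟨d * y, mul_mem hd hy, h.U_mul_eq e3 e1⟩
  · exact ⟨d * u, mul_mem hd hu, h.U_mul_eq e3 e2⟩
  · exact ⟨d * (u * y), mul_mem hd (mul_mem hu hy), h.U_mul_eq e3 (h.U_mul_eq e2 e1)⟩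

theorem fg_free (hF : Frame π y u d) (hZ1 : ¬ Z 1) : ∀ x ∈ h.fg hF, ¬ Z x := by
  intro x hx
  rcases h.fg_form hF hx with rfl | ⟨M, hM, hxM⟩
  · exact hZ1
  · exact h.not_Z_fld hM hxM

theorem fg_pgroup (hF : Frame π y u d) : IsPGroup 2 (h.fg hF) := by
  intro ⟨x, hx⟩
  refine ⟨1, Subtype.ext ?_⟩
  show x ^ 2 ^ 1 = 1
  rw [pow_one, pow_two]
  rcases h.fg_form hF hx with rfl | ⟨M, hM, hxM⟩
  · simp
  · exact h.sq_one (fld_symm M hM) hxM (fld_q M hM)

theorem t_not_mem {S : Subgroup K} (hfree : ∀ x ∈ S, ¬ Z x) : t ∉ S := fun h' => hfree t h' h.Zt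

/-- An element of `S` with the same image as an element of `S` is equal to it. -/
theorem eq_of_mem {S : Subgroup K} (hfree : ∀ x ∈ S, ¬ Z x) {x z : K} (hx : x ∈ S) (hz : z ∈ S)
    (hxz : (π x : M6) = π z) : x = z := by
  rcases h.eq_or hxz with h1 | h1
  · exact h1
  · exact absurd (by rw [show t = x * z⁻¹ by rw [h1]; group]; exact mul_mem hx (inv_mem hz))
      (h.t_not_mem hfree)

theorem form_fld {S : Subgroup K} (hp : IsPGroup 2 S) (hfree : ∀ x ∈ S, ¬ Z x) (hF : Frame π y u d)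
    (hyS : y ∈ S) (huS : u ∈ S) (hyc : ∀ x ∈ S, x * y = y * x) {x : K} (hx : x ∈ S) :
    x = 1 ∨ ∃ M ∈ fld, (π x : M6) = U M := by
  obtain ⟨M, hM, hxM, hdt, hxx⟩ := h.form hp hfree hyS hF.hy hyc hx
  by_cases hx1 : x = 1
  · exact Or.inl hx1
  right
  refine ⟨M, ?_, hxM⟩
  -- the products with the elements of `W`
  have key : ∀ z ∈ S, ∀ N : M3, (π z : M6) = U N → M = N ∨ dt (M + N) = 1 := by
    intro z hz N hzN
    obtain ⟨M', -, hM', hdt', -⟩ := h.form hp hfree hyS hF.hy hyc (mul_mem hx hz)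
    have e : M' = M + N := U_injective (hM'.symm.trans (h.U_mul_eq hxM hzN))
    by_cases h1 : x * z = 1
    · left
      have h2 : (π (x * z) : M6) = U 0 := by rw [h1, map_one, U_zero]; rfl
      have h3 : M + N = 0 := U_injective ((h.U_mul_eq hxM hzN).symm.trans h2)
      have h4 : M + N + N = N := by rw [h3, zero_add]
      rwa [add_assoc, add_self, add_zero] at h4
    · right; rw [← e]; exact hdt' h1
  rcases key y hyS 1 hF.hy with h1 | h1
  · rw [h1]; decide
  rcases key u huS M0 hF.hu with h2 | h2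
  · rw [h2]; decide
  rcases key (u * y) (mul_mem huS hyS) (M0 + 1) (h.U_mul_eq hF.hu hF.hy) with h3 | h3
  · rw [h3]; decide
  have e := eq_sm hM
  have h0 := hdt hx1
  rw [e] at h0 h1 h2 h3
  have := enum_two _ _ _ _ _ _ h0 h1 h2 h3
  rw [← e] at this
  rcases this with h4 | h4 | h4 | h4 <;> rw [h4] <;> decide

/-- If `S` contains the frame it is the frame group. -/
theorem step_four {S : Subgroup K} (hS : MF Z S) (hF : Frame π y u d)
    (hyS : y ∈ S) (huS : u ∈ S) (hdS : d ∈ S) (hyc : ∀ x ∈ S, x * y = y * x) : S = h.fg hF := by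
  have hFS : h.fg hF ≤ S := by
    intro x hx
    obtain ⟨i, j, k, rfl⟩ := (h.mem_fg hF).mp hx
    exact mul_mem (mul_mem (pow_mem hyS i) (pow_mem huS j)) (pow_mem hdS k)
  refine le_antisymm ?_ hFS
  intro x hx
  rcases h.form_fld hS.p hS.free hF hyS huS hyc hx with rfl | ⟨M, hM, hxM⟩
  · exact one_mem _
  · obtain ⟨f, hf, hfM⟩ := h.exists_fg hF hM
    rw [h.eq_of_mem hS.free hx (hFS hf) (hxM.trans hfM.symm)]
    exact hf

theorem step_three {S : Subgroup K} (hS : MF Z S) (hF : Frame π y u d)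
    (hyS : y ∈ S) (huS : u ∈ S) (hyc : ∀ x ∈ S, x * y = y * x) :
    ∃ c, c * y * c⁻¹ = y ∧ c * u * c⁻¹ = u ∧ ∃ x ∈ S, c * x * c⁻¹ = d := by
  have hZ1 : ¬ Z 1 := hS.free 1 (one_mem _)
  -- some element of `S` lies over `M1`
  obtain ⟨x, hx, hxM⟩ : ∃ x ∈ S, (π x : M6) = U M1 := by
    by_contra hcon
    push Not at hcon
    have hSF : S ≤ h.fg hF := by
      intro x hx
      rcases h.form_fld hS.p hS.free hF hyS huS hyc hx with rfl | ⟨M, hM, hxM⟩
      · exact one_mem _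
      · have hy' := h.y_mem hF
        have hu' := h.u_mem hF
        simp only [fld, List.mem_cons, List.not_mem_nil, or_false] at hM
        rcases hM with rfl | rfl | rfl | rfl | rfl | rfl | rfl
        · rw [h.eq_of_mem hS.free hx hyS (hxM.trans hF.hy.symm)]; exact hy'
        · rw [h.eq_of_mem hS.free hx huS (hxM.trans hF.hu.symm)]; exact hu'
        · rw [h.eq_of_mem hS.free hx (mul_mem huS hyS)
            (hxM.trans (h.U_mul_eq hF.hu hF.hy).symm)]
          exact mul_mem hu' hy'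
        · exact absurd hxM (hcon x hx)
        · refine absurd ?_ (hcon (x * y) (mul_mem hx hyS))
          rw [h.U_mul_eq hxM hF.hy, add_assoc, add_self, add_zero]
        · refine absurd ?_ (hcon (x * u) (mul_mem hx huS))
          rw [h.U_mul_eq hxM hF.hu, add_assoc, add_self, add_zero]
        · refine absurd ?_ (hcon (x * (u * y)) (mul_mem hx (mul_mem huS hyS)))
          rw [h.U_mul_eq hxM (h.U_mul_eq hF.hu hF.hy), add_assoc, add_self, add_zero]
    have := hS.max _ (h.fg_pgroup hF) hSF (h.fg_free hF hZ1)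
    exact hcon d (this ▸ h.d_mem hF) hF.hd
  rcases h.eq_or (hxM.trans hF.hd.symm) with h1 | h1
  · exact ⟨1, by simp, by simp, x, hx, by simpa using h1⟩
  · obtain ⟨r, hr⟩ := h.surj ⟨U Mv, U_mem Mv_symm⟩
    have hr' : (π r : M6) = U Mv := by rw [hr]
    have s1 : (1 : M3).IsSymm := transpose_one
    have c1 := h.conj_eq s1 Mv_symm hF.hy hr'
    have c2 := h.conj_eq M0_symm Mv_symm hF.hu hr'
    have c3 := h.conj_eq M1_symm Mv_symm hF.hd hr'
    rw [if_pos bq_Mv.1] at c1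
    rw [if_pos bq_Mv.2.1] at c2
    rw [if_neg (by rw [bq_Mv.2.2]; decide)] at c3
    refine ⟨r, c1, c2, x, hx, ?_⟩
    rw [h1]
    calc r * (t * d) * r⁻¹ = (r * t) * d * r⁻¹ := by group
      _ = t * (r * d * r⁻¹) := by rw [← h.tc]; group
      _ = d := by rw [c3, ← mul_assoc, h.tt, one_mul]

theorem exists_sign (hF : Frame π y u d) (α β : ZMod 2) :
    ∃ r, r * y * r⁻¹ = (if α = 0 then y else t * y) ∧
      r * u * r⁻¹ = (if β = 0 then u else t * u) := by
  obtain ⟨a, b, c, d', e, f, h1, h2⟩ := enum_sign α β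
  have hs : (sm a b c d' e f).IsSymm := by
    rw [Matrix.IsSymm]
    ext i j
    fin_cases i <;> fin_cases j <;> rfl
  obtain ⟨r, hr⟩ := h.surj ⟨U _, U_mem hs⟩
  have hr' : (π r : M6) = U (sm a b c d' e f) := by rw [hr]
  have s1 : (1 : M3).IsSymm := transpose_one
  refine ⟨r, ?_, ?_⟩
  · have := h.conj_eq s1 hs hF.hy hr'
    rw [h1] at this; exact this
  · have := h.conj_eq M0_symm hs hF.hu hr'
    rw [h2] at this; exact this

theorem step_two {S : Subgroup K} (hS : MF Z S) (hF : Frame π y u d)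
    (hyS : y ∈ S) (hyc : ∀ x ∈ S, x * y = y * x) :
    ∃ c, c * y * c⁻¹ = y ∧ ∃ x ∈ S, c * x * c⁻¹ = u := by
  have hZ1 : ¬ Z 1 := hS.free 1 (one_mem _)
  have s1 : (1 : M3).IsSymm := transpose_one
  -- some element of `S` lies over a conjugate of `M0`
  obtain ⟨x, hx, M, hM, hxM, P, hP, hPM⟩ : ∃ x ∈ S, ∃ M : M3, M.IsSymm ∧ (π x : M6) = U M ∧
      ∃ P ∈ perms, P * M * Pᵀ = M0 := by
    obtain ⟨x, hx, M, hM, hxM, h0, h1⟩ : ∃ x ∈ S, ∃ M : M3, M.IsSymm ∧ (π x : M6) = U M ∧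
        dt M = 1 ∧ dt (M + 1) = 1 := by
      by_contra hcon
      push Not at hcon
      have hSF : S ≤ h.fg hF := by
        intro x hx
        obtain ⟨M, hM, hxM, hdt, hxx⟩ := h.form hS.p hS.free hyS hF.hy hyc hx
        by_cases hx1 : x = 1
        · rw [hx1]; exact one_mem _
        obtain ⟨M', -, hM', hdt', -⟩ := h.form hS.p hS.free hyS hF.hy hyc (mul_mem hx hyS)
        have e : M' = M + 1 := U_injective (hM'.symm.trans (h.U_mul_eq hxM hF.hy))
        by_cases h1 : x * y = 1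
        · have : x = y⁻¹ := mul_eq_one_iff_eq_inv.mp h1
          rw [this]; exact inv_mem (h.y_mem hF)
        · exact absurd (e ▸ hdt' h1) (hcon x hx M hM hxM (hdt hx1))
      have := hS.max _ (h.fg_pgroup hF) hSF (h.fg_free hF hZ1)
      exact hcon u (this ▸ h.u_mem hF) M0 M0_symm hF.hu (by decide) (by decide)
    have e := eq_sm hM
    rw [e] at h0 h1
    obtain ⟨P, hP, h2⟩ := enum_one _ _ _ _ _ _ h0 h1
    rw [← e] at h2
    rcases h2 with h2 | h2
    · exact ⟨x, hx, M, hM, hxM, P, hP, h2⟩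
    · refine ⟨x * y, mul_mem hx hyS, M + 1, hM.add s1, h.U_mul_eq hxM hF.hy, P, hP, ?_⟩
      rw [Matrix.mul_add, Matrix.mul_one, Matrix.add_mul, perms_orth P hP, h2, add_assoc, add_self,
        add_zero]
  have hPP := perms_orth P hP
  obtain ⟨c, hc⟩ := h.surj ⟨V P P, V_mem hPP⟩
  have hcc : ∀ (z : K) (N : M3), (π z : M6) = U N → (π (c * z * c⁻¹) : M6) = U (P * N * Pᵀ) := by
    intro z N hz
    have e1 : (π (c * z * c⁻¹) : M6) * (π c : M6) = U (P * N * Pᵀ) * (π c : M6) := by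
      have : (π (c * z * c⁻¹) : M6) * (π c : M6) = ((π (c * z * c⁻¹) * π c : Sp) : M6) := rfl
      rw [this, ← map_mul, inv_mul_cancel_right, map_mul]
      show (π c : M6) * (π z : M6) = _
      rw [hc, hz]
      exact conj_V hPP
    have e2 : (π c : M6) * ((π c)⁻¹ : Sp) = 1 := congrArg Subtype.val (mul_inv_cancel (π c))
    calc (π (c * z * c⁻¹) : M6) = (π (c * z * c⁻¹) : M6) * ((π c : M6) * ((π c)⁻¹ : Sp)) := by
          rw [e2, mul_one]
      _ = U (P * N * Pᵀ) * (π c : M6) * ((π c)⁻¹ : Sp) := by rw [← mul_assoc, e1]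
      _ = U (P * N * Pᵀ) := by rw [mul_assoc, e2, mul_one]
  have hcy := hcc y 1 hF.hy
  rw [Matrix.mul_one, hPP] at hcy
  have hcx := hcc x M hxM
  rw [hPM] at hcx
  -- adjust the signs
  obtain ⟨α, hα⟩ : ∃ α : ZMod 2, c * y * c⁻¹ = if α = 0 then y else t * y := by
    rcases h.eq_or (hcy.trans hF.hy.symm) with h1 | h1
    · exact ⟨0, by simpa using h1⟩
    · exact ⟨1, by simpa using h1⟩
  obtain ⟨β, hβ⟩ : ∃ β : ZMod 2, c * x * c⁻¹ = if β = 0 then u else t * u := by
    rcases h.eq_or (hcx.trans hF.hu.symm) with h1 | h1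
    · exact ⟨0, by simpa using h1⟩
    · exact ⟨1, by simpa using h1⟩
  obtain ⟨r, hr1, hr2⟩ := h.exists_sign hF α β
  have fix : ∀ (γ : ZMod 2) (z v : K), c * z * c⁻¹ = (if γ = 0 then v else t * v) →
      r * v * r⁻¹ = (if γ = 0 then v else t * v) → r * c * z * (r * c)⁻¹ = v := by
    intro γ z v h1 h2
    have e : r * c * z * (r * c)⁻¹ = r * (c * z * c⁻¹) * r⁻¹ := by group
    rw [e, h1]
    split_ifs at h2 ⊢ with hγ
    · exact h2
    · calc r * (t * v) * r⁻¹ = (r * t) * v * r⁻¹ := by group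
        _ = t * (r * v * r⁻¹) := by rw [← h.tc]; group
        _ = v := by rw [h2, ← mul_assoc, h.tt, one_mul]
  exact ⟨r * c, fix α y y hα hr1, x, hx, fix β x u hβ hr2⟩

theorem step_one [Finite K] {S : Subgroup K} (hS : MF Z S) (hF : Frame π y u d) :
    ∃ c, ∃ x ∈ S, (∀ z ∈ S, z * x = x * z) ∧ c * x * c⁻¹ = y := by
  have hZ1 : ¬ Z 1 := hS.free 1 (one_mem _)
  have hne : Nontrivial S := by
    rw [Subgroup.nontrivial_iff_ne_bot]
    rintro rfl
    have := hS.max _ (h.fg_pgroup hF) bot_le (h.fg_free hF hZ1)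
    have h1 : y ∈ (⊥ : Subgroup K) := this ▸ h.y_mem hF
    rw [Subgroup.mem_bot] at h1
    have h2 := hF.hy
    rw [h1, map_one] at h2
    have h3 : U 0 = U 1 := by rw [U_zero]; exact h2
    have h4 := U_injective h3
    have h5 := congrFun (congrFun h4 0) 0
    simp at h5
  have : Fact (Nat.Prime 2) := ⟨Nat.prime_two⟩
  have hc := hS.p.center_nontrivial
  obtain ⟨⟨z, hz⟩, hz1⟩ := exists_ne (1 : Subgroup.center S)
  -- an element of order two of the center
  have hord : ∃ x : Subgroup.center S, orderOf x = 2 := by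
    have hp : IsPGroup 2 (Subgroup.center S) := hS.p.to_subgroup _
    apply exists_prime_orderOf_dvd_card' 2
    obtain ⟨n, hn⟩ := hp.exists_card_eq
    have h1 : 1 < Nat.card (Subgroup.center S) := Finite.one_lt_card
    rw [hn] at h1 ⊢
    rcases n with _ | n
    · simp at h1
    · exact dvd_pow_self 2 (by omega)
  obtain ⟨⟨⟨x, hxS⟩, hxc⟩, hx2⟩ := hord
  have hx2' : orderOf x = 2 := by
    rw [← hx2, ← Subgroup.orderOf_coe, ← Subgroup.orderOf_coe]
  have hxx : x * x = 1 := by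
    have := pow_orderOf_eq_one x; rwa [hx2', pow_two] at this
  have hx1 : x ≠ 1 := by
    intro h1; rw [h1, orderOf_one] at hx2'; omega
  obtain ⟨c, hc'⟩ := h.conjU x hxx hx1 (hS.free x hxS)
  have hcomm : ∀ z ∈ S, z * x = x * z := by
    intro z hz
    have := Subgroup.mem_center_iff.mp hxc ⟨z, hz⟩
    simpa using congrArg Subtype.val this
  rcases h.eq_or (hc'.trans hF.hy.symm) with h1 | h1
  · exact ⟨c, x, hxS, hcomm, h1⟩
  · obtain ⟨r, hr1, -⟩ := h.exists_sign hF 1 0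
    rw [if_neg one_ne_zero] at hr1
    refine ⟨r * c, x, hxS, hcomm, ?_⟩
    have e : r * c * x * (r * c)⁻¹ = r * (c * x * c⁻¹) * r⁻¹ := by group
    rw [e, h1]
    calc r * (t * y) * r⁻¹ = (r * t) * y * r⁻¹ := by group
      _ = t * (r * y * r⁻¹) := by rw [← h.tc]; group
      _ = y := by rw [hr1, ← mul_assoc, h.tt, one_mul]

/-- **The maximal 2-subgroups without elements of `Z` are conjugate to the frame group.** -/
theorem exists_conj [Finite K] {S : Subgroup K} (hS : MF Z S) (hF : Frame π y u d) :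
    ∃ c : K, S.map (MulAut.conj c).toMonoidHom = h.fg hF := by
  have mapc : ∀ (c : K) (T : Subgroup K) (x : K), x ∈ T →
      c * x * c⁻¹ ∈ T.map (MulAut.conj c).toMonoidHom := fun c T x hx => ⟨x, hx, by simp⟩
  have comp : ∀ (c c' : K) (T : Subgroup K), (T.map (MulAut.conj c).toMonoidHom).map
      (MulAut.conj c').toMonoidHom = T.map (MulAut.conj (c' * c)).toMonoidHom := by
    intro c c' T
    rw [Subgroup.map_map]; congr 1; ext x; simp [mul_assoc]
  obtain ⟨c1, x1, hx1, hc1, e1⟩ := h.step_one hS hF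
  have hS1 := hS.conj h.Zconj c1
  have hy1 : y ∈ S.map (MulAut.conj c1).toMonoidHom := e1 ▸ mapc c1 S x1 hx1
  have hyc1 : ∀ z ∈ S.map (MulAut.conj c1).toMonoidHom, z * y = y * z := by
    rintro _ ⟨z, hz, rfl⟩
    rw [← e1]
    simp only [MulEquiv.coe_toMonoidHom, MulAut.conj_apply]
    calc c1 * z * c1⁻¹ * (c1 * x1 * c1⁻¹) = c1 * (z * x1) * c1⁻¹ := by group
      _ = c1 * x1 * c1⁻¹ * (c1 * z * c1⁻¹) := by rw [hc1 z hz]; group
  have hyc' : ∀ (T : Subgroup K) (c : K), (∀ z ∈ T, z * y = y * z) → c * y * c⁻¹ = y →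
      ∀ z ∈ T.map (MulAut.conj c).toMonoidHom, z * y = y * z := by
    rintro T c hT hc _ ⟨z, hz, rfl⟩
    conv_lhs => rw [← hc]
    conv_rhs => rw [← hc]
    simp only [MulEquiv.coe_toMonoidHom, MulAut.conj_apply]
    calc c * z * c⁻¹ * (c * y * c⁻¹) = c * (z * y) * c⁻¹ := by group
      _ = c * y * c⁻¹ * (c * z * c⁻¹) := by rw [hT z hz]; group
  obtain ⟨c2, e2, x2, hx2, e2'⟩ := h.step_two hS1 hF hy1 hyc1
  have hS2 := hS1.conj h.Zconj c2
  have hy2 := mapc c2 _ y hy1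
  rw [e2] at hy2
  have hu2 := mapc c2 _ x2 hx2
  rw [e2'] at hu2
  have hyc2 := hyc' _ c2 hyc1 e2
  obtain ⟨c3, e3, e3', x3, hx3, e3''⟩ := h.step_three hS2 hF hy2 hu2 hyc2
  have hS3 := hS2.conj h.Zconj c3
  have hy3 := mapc c3 _ y hy2
  rw [e3] at hy3
  have hu3 := mapc c3 _ u hu2
  rw [e3'] at hu3
  have hd3 := mapc c3 _ x3 hx3
  rw [e3''] at hd3
  have hyc3 := hyc' _ c3 hyc2 e3
  have := h.step_four hS3 hF hy3 hu3 hd3 hyc3
  refine ⟨c3 * c2 * c1, ?_⟩
  rw [← this, comp, comp]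

end KData

end Cfsg.Agent.SporRec.Co3
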