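import Cfsg.Agent.SporRec.Co3.LineCode
import Cfsg.Agent.SporRec.Co3.ConjF

/-!
# Words in `2·Sp₆(2)` for the elements of the closing argument
-/

set_option autoImplicit false

namespace Cfsg.Agent.SporRec.Co3.CWords

open Cfsg.Agent.SporRec.TwoSp6.Cox Cfsg.Agent.SporRec.TwoSp6.Sp Cfsg.Agent.SporRec.TwoSp6.Model
  Cfsg.Agent.SporRec.Co3.LineCode
open Matrix

/-- word over `U 1` -/
def wy : List ℕ := [1, 2, 0, 3, 1, 2, 0, 3, 2, 5, 6, 5, 4, 3, 1, 2, 0, 3, 2, 4, 3, 1, 5, 6]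
/-- word over `U M0` -/
def wu : List ℕ := [1, 3, 1, 2, 0, 4, 3, 1, 2, 3, 4, 5, 4, 3, 1, 2, 0, 3, 2, 4, 3, 1, 5]
/-- word over `U M1` -/
def wd : List ℕ := [3, 4, 3, 1, 2, 0, 5, 4, 3, 1, 2, 0, 3, 6, 5, 4, 3, 1, 2, 0, 3, 2, 4, 3, 1, 5, 4, 3, 6, 5, 4]
/-- word over `U Mv` -/
def wv' : List ℕ := [0, 2, 0, 3, 1, 2, 3, 4, 5, 4, 6, 5, 4, 3, 1, 2, 0, 3, 2]

section

variable {C : Type*} [Group C] {z : C} {π : C →* S} {a : Fin 7 → C}

theorem pi_eq_U (ha : ∀ i, π (a i) = tr (v i)) (hz : π z = 1) (w : List ℕ) (X : M3)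
    (h : ∀ c : Fin 64, enc (stw w c) = U X *ᵥ enc c) : ((π (wv a z w) : S) : M6) = U X := by
  have key : ∀ x : Fin 3 ⊕ Fin 3 → ZMod 2, ((π (wv a z w) : S) : M6) *ᵥ x = U X *ᵥ x := by
    intro x
    obtain ⟨c, hc, rfl⟩ := exists_enc x
    have h1 := act_wv ha hz w hc
    have h2 := h ⟨c, hc⟩
    rw [← h2]
    exact h1
  ext i j
  have := congrFun (key (Pi.single j 1)) i
  rwa [mulVec_single_one, mulVec_single_one] at this

theorem pi_y (ha : ∀ i, π (a i) = tr (v i)) (hz : π z = 1) : ((π (wv a z wy) : S) : M6) = U 1 :=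
  pi_eq_U ha hz _ _ (by decide +kernel)

theorem pi_u (ha : ∀ i, π (a i) = tr (v i)) (hz : π z = 1) : ((π (wv a z wu) : S) : M6) = U M0 :=
  pi_eq_U ha hz _ _ (by decide +kernel)

theorem pi_d (ha : ∀ i, π (a i) = tr (v i)) (hz : π z = 1) : ((π (wv a z wd) : S) : M6) = U M1 :=
  pi_eq_U ha hz _ _ (by decide +kernel)

theorem pi_v (ha : ∀ i, π (a i) = tr (v i)) (hz : π z = 1) : ((π (wv a z wv') : S) : M6) = U Mv :=
  pi_eq_U ha hz _ _ (by decide +kernel)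

end

end Cfsg.Agent.SporRec.Co3.CWords
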