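import Cfsg.Agent.SporRec.Co3.CentW
import Cfsg.Agent.SporRec.Closing

/-!
# The closing argument of the characterisation of the third Conway group
-/

set_option autoImplicit false

namespace Cfsg.Agent.SporRec.Co3

open Matrix

variable {G : Type*} [Group G]

namespace CData

variable {t : G} {H : Subgroup G} {π : Cn t →* Sp} {y u d v : Cn t} {f : P5 →* G}
  (h : CData t H π y u d v f)

include h

theorem t_mem_Y : t ∈ h.Y := h.H1_le_Y h.t_mem_H1

theorem W_pow (i j : Fin 2) : (y : G) ^ (i : ℕ) * (u : G) ^ (j : ℕ) ∈ h.W :=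
  mul_mem (pow_mem h.y_mem_W _) (pow_mem h.u_mem_W _)

theorem pi_pow (i j : Fin 2) :
    (π (y ^ (i : ℕ) * u ^ (j : ℕ)) : M6) = U ((i : ℕ) • (1 : M3) + (j : ℕ) • M0) := by
  apply KData.U_mul_eq h.kd
  · fin_cases i
    · simp [U_zero]
    · simpa using h.fr.hy
  · fin_cases j
    · simp [U_zero]
    · simpa using h.fr.hu

theorem card_ge [Finite G] : 480 ≤ Nat.card (h.H1.subgroupOf h.Y) := by
  have hY := h.H1_le_Y
  let F : (Fin 2 × Fin 2) × P5 → h.H1.subgroupOf h.Y := fun p =>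
    ⟨⟨(y : G) ^ (p.1.1 : ℕ) * (u : G) ^ (p.1.2 : ℕ) * f p.2, hY ⟨_, _, h.W_pow _ _, rfl⟩⟩,
      ⟨_, _, h.W_pow _ _, rfl⟩⟩
  have hF : Function.Injective F := by
    rintro ⟨⟨i, j⟩, σ⟩ ⟨⟨i', j'⟩, σ'⟩ heq
    have h1 : (y : G) ^ (i : ℕ) * (u : G) ^ (j : ℕ) * f σ =
        (y : G) ^ (i' : ℕ) * (u : G) ^ (j' : ℕ) * f σ' := by
      have h0 := congrArg (fun z : h.H1.subgroupOf h.Y => ((z : h.Y) : G)) heq
      exact h0
    have hw := h.W_pow i j
    have hw' := h.W_pow i' j'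
    set w := (y : G) ^ (i : ℕ) * (u : G) ^ (j : ℕ) with hwdef
    set w' := (y : G) ^ (i' : ℕ) * (u : G) ^ (j' : ℕ) with hwdef'
    have h2 : f (σ * σ'⁻¹) = w⁻¹ * w' := by
      rw [map_mul, map_inv]
      calc f σ * (f σ')⁻¹ = w⁻¹ * (w * f σ) * (f σ')⁻¹ := by group
        _ = w⁻¹ * w' := by rw [h1]; group
    have h3 : σ * σ'⁻¹ = 1 := by
      apply central_eq_one
      intro ρ
      apply h.inj
      rw [map_mul f ρ, map_mul f _ ρ, h2, h.W_comm_f (mul_mem (inv_mem hw) hw')]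
    have h4 : σ = σ' := mul_inv_eq_one.mp h3
    have h5 : w = w' := by
      rw [h3, map_one] at h2
      exact (inv_mul_eq_one.mp h2.symm)
    have h6 : y ^ (i : ℕ) * u ^ (j : ℕ) = y ^ (i' : ℕ) * u ^ (j' : ℕ) := by
      apply Subtype.ext
      exact h5
    have h7 : U ((i : ℕ) • (1 : M3) + (j : ℕ) • M0) = U ((i' : ℕ) • (1 : M3) + (j' : ℕ) • M0) := by
      rw [← h.pi_pow, ← h.pi_pow, h6]
    have h8 := U_injective h7
    have h9 : ∀ i j i' j' : Fin 2, ((i : ℕ) • (1 : M3) + (j : ℕ) • M0) =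
        ((i' : ℕ) • (1 : M3) + (j' : ℕ) • M0) → i = i' ∧ j = j' := by decide +kernel
    obtain ⟨h10, h11⟩ := h9 _ _ _ _ h8
    rw [h4, h10, h11]
  have := Nat.card_le_card_of_injective F hF
  rw [Nat.card_prod, Nat.card_prod, Nat.card_eq_fintype_card, Nat.card_eq_fintype_card,
    Fintype.card_perm, Fintype.card_fin, Fintype.card_fin] at this
  norm_num [Nat.factorial] at this
  exact this

omit h in
theorem pow_fin {x : G} (hx : x * x = 1) (n : ℕ) : ∃ i : Fin 2, x ^ n = x ^ (i : ℕ) := by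
  rcases Nat.even_or_odd' n with ⟨k, hk | hk⟩
  · exact ⟨0, by rw [hk, pow_mul, pow_two, hx, one_pow]; simp⟩
  · exact ⟨1, by rw [hk, pow_add, pow_mul, pow_two, hx, one_pow]; simp⟩

theorem card_cent_le [Finite G] :
    Nat.card (Subgroup.centralizer ({(⟨t, h.t_mem_Y⟩ : h.Y)} : Set h.Y)) ≤ 32 := by
  have hy := h.y_mem_W
  have hdH : (d : G) ∈ h.H1 := h.fd ▸ h.f_mem_H1 s01
  have hvH : (v : G) ∈ h.H1 := h.fv ▸ h.f_mem_H1 dbl'
  obtain ⟨-, -, -, -, -, hdd'⟩ := h.kd.frame_comm h.fr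
  have hdd : (d : G) * d = 1 := congrArg Subtype.val hdd'
  have hvv : (v : G) * v = 1 := by
    rw [← h.fv, ← map_mul, show dbl' * dbl' = 1 by decide +kernel, map_one]
  obtain ⟨hyy, huu, -⟩ := h.yy
  have hmem : ∀ p : Fin 2 × Fin 2 × Fin 2 × Fin 2 × Fin 2,
      (y : G) ^ (p.1 : ℕ) * (u : G) ^ (p.2.1 : ℕ) * (d : G) ^ (p.2.2.1 : ℕ) *
        (v : G) ^ (p.2.2.2.1 : ℕ) * t ^ (p.2.2.2.2 : ℕ) ∈ h.H1 := fun p =>
    mul_mem (mul_mem (mul_mem (mul_mem (pow_mem (h.W_le_H1 h.y_mem_W) _)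
      (pow_mem (h.W_le_H1 h.u_mem_W) _)) (pow_mem hdH _)) (pow_mem hvH _)) (pow_mem h.t_mem_H1 _)
  have hmem' : ∀ p : Fin 2 × Fin 2 × Fin 2 × Fin 2 × Fin 2,
      (y : G) ^ (p.1 : ℕ) * (u : G) ^ (p.2.1 : ℕ) * (d : G) ^ (p.2.2.1 : ℕ) *
        (v : G) ^ (p.2.2.2.1 : ℕ) * t ^ (p.2.2.2.2 : ℕ) ∈ Cn t := fun p =>
    mul_mem (mul_mem (mul_mem (mul_mem (pow_mem y.2 _) (pow_mem u.2 _)) (pow_mem d.2 _))
      (pow_mem v.2 _)) (pow_mem (t_mem_Cn t) _)
  let F : Fin 2 × Fin 2 × Fin 2 × Fin 2 × Fin 2 →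
      Subgroup.centralizer ({(⟨t, h.t_mem_Y⟩ : h.Y)} : Set h.Y) := fun p =>
    ⟨⟨_, h.H1_le_Y (hmem p)⟩, by
      rw [Subgroup.mem_centralizer_singleton_iff]
      apply Subtype.ext
      exact Subgroup.mem_centralizer_singleton_iff.mp (hmem' p)⟩
  have hF : Function.Surjective F := by
    rintro ⟨⟨c, hcY⟩, hc⟩
    rw [Subgroup.mem_centralizer_singleton_iff] at hc
    have hc' : c * t = t * c := congrArg Subtype.val hc
    have hk : c ∈ Cn t := Subgroup.mem_centralizer_singleton_iff.mpr hc'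
    obtain ⟨i, j, l, m, n, he⟩ := h.form_W ⟨c, hk⟩
      (Subtype.ext ((h.mem_Y.mp hcY) _ h.y_mem_W).symm)
      (Subtype.ext ((h.mem_Y.mp hcY) _ h.u_mem_W).symm)
    have he' : c = (y : G) ^ i * (u : G) ^ j * (d : G) ^ l * (v : G) ^ m * t ^ n :=
      congrArg Subtype.val he
    obtain ⟨i', hi⟩ := pow_fin hyy i
    obtain ⟨j', hj⟩ := pow_fin huu j
    obtain ⟨l', hl⟩ := pow_fin hdd l
    obtain ⟨m', hm⟩ := pow_fin hvv m
    obtain ⟨n', hn⟩ := pow_fin h.tt n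
    refine ⟨(i', j', l', m', n'), ?_⟩
    apply Subtype.ext
    apply Subtype.ext
    show (y : G) ^ (i' : ℕ) * (u : G) ^ (j' : ℕ) * (d : G) ^ (l' : ℕ) * (v : G) ^ (m' : ℕ) *
      t ^ (n' : ℕ) = c
    rw [he', hi, hj, hl, hm, hn]
  have := Nat.card_le_card_of_surjective F hF
  simpa using this

/-- **The centralizer of `W` is contained in `W × S₅`.** -/
theorem Y_le [Finite G] : h.Y ≤ h.H1 := by
  by_contra hne
  have htY := h.t_mem_Y
  obtain ⟨τ, ⟨g0, hg0⟩, hτ, hcard⟩ := ZCount.exists_many (⟨t, htY⟩ : h.Y) (h.H1.subgroupOf h.Y)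
    (by rw [Subgroup.mem_subgroupOf]; exact h.t_mem_H1)
    (fun g hg => by
      rw [Subgroup.mem_subgroupOf] at hg ⊢
      exact h.hZ_Y g.2 hg)
    (by rwa [Ne, Subgroup.subgroupOf_eq_top])
  rw [Subgroup.mem_subgroupOf] at hτ
  have h1 := h.card_ge
  have h2 := h.card_cent_le
  -- the subgroup of the symmetric group
  let D : Subgroup P5 := (h.H1.comap ((MulAut.conj (τ : G)).toMonoidHom.comp f))
  have hDmem : ∀ σ, σ ∈ D ↔ (τ : G) * f σ * (τ : G)⁻¹ ∈ h.H1 := fun σ => by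
    simp [D, Subgroup.mem_comap]
  have hD : ∀ ρ : P5, ρ * dbl * ρ⁻¹ ∉ D := by
    intro ρ hρ
    rw [hDmem, map_mul, map_mul, map_inv, h.ft] at hρ
    have h3 : (τ : G) * f ρ * t * ((τ : G) * f ρ)⁻¹ ∈ h.H1 := by
      have : (τ : G) * f ρ * t * ((τ : G) * f ρ)⁻¹ = (τ : G) * (f ρ * t * (f ρ)⁻¹) * (τ : G)⁻¹ := by
        group
      rw [this]; exact hρ
    have h4 := h.hZ_Y (mul_mem τ.2 (h.H1_le_Y (h.f_mem_H1 ρ))) h3
    have h5 := mul_mem h4 (inv_mem (h.f_mem_H1 ρ))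
    rw [mul_inv_cancel_right] at h5
    exact hτ h5
  have hDlt := card_lt D hD
  -- `τ` is an involution
  have hττ : (τ : G) * τ = 1 := by
    have h3 : ((g0 : G) * t * (g0 : G)⁻¹) = τ := congrArg Subtype.val hg0
    rw [← h3]
    calc (g0 : G) * t * (g0 : G)⁻¹ * ((g0 : G) * t * (g0 : G)⁻¹) = (g0 : G) * (t * t) * (g0 : G)⁻¹ := by
          group
      _ = 1 := by rw [h.tt]; group
  have hτi : (τ : G)⁻¹ = τ := inv_eq_of_mul_eq_one_right hττ
  -- the map to `D`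
  have key : ∀ e : {x : h.H1.subgroupOf h.Y // ∃ g : h.Y, g * (⟨t, htY⟩ : h.Y) * g⁻¹ = τ * x},
      ∃ σ : P5, ∃ w ∈ h.W, ((e.1 : h.Y) : G) = w * f σ ∧ σ ∈ D := by
    rintro ⟨⟨⟨x, hxY⟩, hx⟩, g, hg⟩
    rw [Subgroup.mem_subgroupOf] at hx
    obtain ⟨w, σ, hw, hxw0⟩ := h.mem_H1.mp hx
    have hxw : x = w * f σ := hxw0
    refine ⟨σ, w, hw, hxw, ?_⟩
    rw [hDmem]
    have hg' : (g : G) * t * (g : G)⁻¹ = τ * x := congrArg Subtype.val hg
    have hinv : (τ : G) * x * (τ * x) = 1 := by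
      rw [← hg']
      calc (g : G) * t * (g : G)⁻¹ * ((g : G) * t * (g : G)⁻¹) = (g : G) * (t * t) * (g : G)⁻¹ := by
            group
        _ = 1 := by rw [h.tt]; group
    have h3 : (τ : G) * x * (τ : G)⁻¹ = x⁻¹ := by
      rw [hτi]
      calc (τ : G) * x * τ = ((τ : G) * x * (τ * x)) * x⁻¹ := by group
        _ = x⁻¹ := by rw [hinv, one_mul]
    have h4 : w * (τ : G) = (τ : G) * w := (h.mem_Y.mp τ.2) w hw
    have h5 : (τ : G) * f σ * (τ : G)⁻¹ = w⁻¹ * ((τ : G) * x * (τ : G)⁻¹) := by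
      rw [hxw]
      calc (τ : G) * f σ * (τ : G)⁻¹ = w⁻¹ * (w * (τ : G)) * f σ * (τ : G)⁻¹ := by group
        _ = _ := by rw [h4]; group
    rw [h5, h3]
    exact mul_mem (inv_mem (h.W_le_H1 hw)) (inv_mem hx)
  choose F w hw hF hFD using key
  have hinj : Function.Injective (fun e => (⟨F e, hFD e⟩ : D)) := by
    intro e e' hee
    have hFF : F e = F e' := congrArg Subtype.val hee
    obtain ⟨g, hg⟩ := e.2
    obtain ⟨g', hg'⟩ := e'.2
    have k1 : (g : G) * t * (g : G)⁻¹ = τ * (w e * f (F e)) := by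
      rw [← hF e]; exact congrArg Subtype.val hg
    have k2 : (g' : G) * t * (g' : G)⁻¹ = τ * (w e' * f (F e)) := by
      rw [hFF, ← hF e']; exact congrArg Subtype.val hg'
    have hww : (w e)⁻¹ * w e' ∈ h.W := mul_mem (inv_mem (hw e)) (hw e')
    have k3 : (g' : G) * t * (g' : G)⁻¹ = ((g : G) * t * (g : G)⁻¹) * ((w e)⁻¹ * w e') := by
      rw [k1, k2]
      have c1 := h.W_comm_f hww (F e)
      calc (τ : G) * (w e' * f (F e)) = τ * w e * (((w e)⁻¹ * w e') * f (F e)) := by group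
        _ = τ * w e * (f (F e) * ((w e)⁻¹ * w e')) := by rw [c1]
        _ = _ := by group
    have c2 : (g : G)⁻¹ * ((w e)⁻¹ * w e') = ((w e)⁻¹ * w e') * (g : G)⁻¹ :=
      ((h.mem_Y.mp (inv_mem g.2)) _ hww).symm
    have c3 : t * ((w e)⁻¹ * w e') = ((w e)⁻¹ * w e') * t := ((h.mem_Y.mp htY) _ hww).symm
    have k4 : ((g : G)⁻¹ * g') * t * ((g : G)⁻¹ * g')⁻¹ = ((w e)⁻¹ * w e') * t := by
      calc ((g : G)⁻¹ * g') * t * ((g : G)⁻¹ * g')⁻¹ = (g : G)⁻¹ * ((g' : G) * t * (g' : G)⁻¹) * g := by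
            group
        _ = t * ((g : G)⁻¹ * ((w e)⁻¹ * w e')) * g := by rw [k3]; group
        _ = t * ((w e)⁻¹ * w e') := by rw [c2]; group
        _ = _ := c3
    have k5 := h.tw_not hww _ k4
    have k6 : w e = w e' := inv_mul_eq_one.mp k5
    apply Subtype.ext
    apply Subtype.ext
    apply Subtype.ext
    rw [hF e, hF e', k6, hFF]
  have hle := Nat.card_le_card_of_injective _ hinj
  have h6 : Nat.card (Subgroup.centralizer ({(⟨t, h.t_mem_Y⟩ : h.Y)} : Set h.Y)) *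
      Nat.card {x : h.H1.subgroupOf h.Y // ∃ g : h.Y, g * (⟨t, htY⟩ : h.Y) * g⁻¹ = τ * x} ≤ 32 * 14 :=
    Nat.mul_le_mul h2 (by omega)
  omega

theorem Y_le_H [Finite G] : h.Y ≤ H := h.Y_le.trans h.H1_le

theorem mem_Y_of {g : G} (h1 : g * y = y * g) (h2 : g * u = u * g) : g ∈ h.Y := by
  rw [mem_Y]
  intro w hw
  have : h.W ≤ Subgroup.centralizer ({g} : Set G) := by
    rw [W, Subgroup.closure_le]
    rintro x (rfl | rfl)
    · exact Subgroup.mem_centralizer_singleton_iff.mpr h1.symm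
    · exact Subgroup.mem_centralizer_singleton_iff.mpr h2.symm
  exact Subgroup.mem_centralizer_singleton_iff.mp (this hw)

/-- **The closing theorem.** -/
theorem eq_top [Finite G] (T : Sylow 2 G) (htT : t ∈ (T : Subgroup G))
    (hT : ∀ x ∈ (T : Subgroup G), x * t = t * x) : H = ⊤ := by
  by_contra hH
  obtain ⟨S, hS⟩ := Closing.exists_closing H hH T t h.tt htT hT h.Cn_le
    (fun g hg => ⟨g, h.hZ g hg, rfl⟩)
  have hTC : (T : Subgroup G) ≤ Cn t := fun x hx =>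
    Subgroup.mem_centralizer_singleton_iff.mpr (hT x hx)
  have hSC : S ≤ Cn t := hS.le.trans hTC
  have hS2 : IsPGroup 2 S := T.isPGroup'.to_le hS.le
  have hMF : MF (Zt t) (S.subgroupOf (Cn t)) := by
    refine ⟨?_, ?_, ?_⟩
    · exact hS2.comap_of_injective (Cn t).subtype Subtype.val_injective
    · rintro x hx ⟨g, hg⟩
      apply hS.free g
      rw [hg]; exact Subgroup.mem_subgroupOf.mp hx
    · intro R hR hSR hRf
      by_contra hne
      have hlt : S < R.map (Cn t).subtype := by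
        refine lt_of_le_of_ne ?_ ?_
        · intro x hx
          exact ⟨⟨x, hSC hx⟩, hSR (Subgroup.mem_subgroupOf.mpr hx), rfl⟩
        · intro heq
          apply hne
          ext x
          rw [Subgroup.mem_subgroupOf, heq]
          constructor
          · intro hx; exact ⟨x, hx, rfl⟩
          · rintro ⟨x', hx', he⟩
            have : x' = x := Subtype.ext he
            rwa [← this]
      obtain ⟨x, hxR, hxN, hxS, hxx⟩ := MaxFix.exists_sq_mem (hR.map _) hlt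
      obtain ⟨s, hs, n, -, e, -⟩ := hS.exists_z hT x hxN hxS hxx
      have h1 : x * s ∈ R.map (Cn t).subtype := mul_mem hxR (hlt.le hs)
      obtain ⟨r, hr, her⟩ := h1
      exact hRf r hr ⟨n, by rw [← e]; exact her.symm⟩
  obtain ⟨c, hc⟩ := h.kd.exists_conj hMF h.fr
  apply hS.not_le
  intro n hn
  -- elements of the frame group
  have key : ∀ x ∈ h.kd.fg h.fr, ((c : G) * n) * t * ((c : G) * n)⁻¹ * x =
      x * (((c : G) * n) * t * ((c : G) * n)⁻¹) := by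
    intro x hx
    rw [← hc] at hx
    obtain ⟨s, hs, rfl⟩ := hx
    have hs' : (s : G) ∈ S := Subgroup.mem_subgroupOf.mp hs
    have h1 : n⁻¹ * (s : G) * n ∈ S := by
      have := (Subgroup.mem_normalizer_iff.mp (inv_mem hn) s).mp hs'
      simpa using this
    have h2 := Subgroup.mem_centralizer_singleton_iff.mp (hSC h1)
    have e : (((MulAut.conj c).toMonoidHom s : Cn t) : G) = (c : G) * s * (c : G)⁻¹ := by simp
    rw [e]
    calc ((c : G) * n) * t * ((c : G) * n)⁻¹ * ((c : G) * s * (c : G)⁻¹)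
        = (c : G) * n * (t * (n⁻¹ * (s : G) * n)) * n⁻¹ * (c : G)⁻¹ := by group
      _ = (c : G) * n * ((n⁻¹ * (s : G) * n) * t) * n⁻¹ * (c : G)⁻¹ := by rw [h2]
      _ = _ := by group
  have h1 : ((c : G) * n) * t * ((c : G) * n)⁻¹ ∈ h.Y :=
    h.mem_Y_of (key y (h.kd.y_mem h.fr)) (key u (h.kd.u_mem h.fr))
  have h2 := h.hZ _ (h.Y_le_H h1)
  have h3 := mul_mem (inv_mem (h.Cn_le c.2)) h2
  rwa [inv_mul_cancel_left] at h3

end CData

end Cfsg.Agent.SporRec.Co3
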