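import Cfsg.Agent.SporRec.Co3DC.Rel

/-!
# Identification by a fibre product

If every group generated by an image of `M` and an element `w` with `WRel φ w 1 1` has order at most `n`, and `K` is a
simple group of order `n` generated in this way, then every group generated in this way, in which the image of `z` is not
trivial, is isomorphic to `K` with matching generators.
-/

set_option autoImplicit false

namespace Cfsg.Agent.SporRec.Co3.IsoFib

open Cfsg.Agent.SporRec.TwoSp6.Model Cfsg.Agent.SporRec.Co3DC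

universe u v

/-- the group generated by the image of `M` and `w` -/
def gp {G : Type*} [Group G] (φ : M →* G) (w : G) : Subgroup G := Subgroup.closure (Set.range φ ∪ {w})

theorem mem_left {G : Type*} [Group G] (φ : M →* G) (w : G) (x : M) : φ x ∈ gp φ w :=
  Subgroup.subset_closure (Or.inl ⟨x, rfl⟩)

theorem mem_right {G : Type*} [Group G] (φ : M →* G) (w : G) : w ∈ gp φ w :=
  Subgroup.subset_closure (Or.inr rfl)

theorem wrel_prod {G K : Type*} [Group G] [Group K] {φ : M →* G} {w : G} {φ' : M →* K} {w' : K} {a b : M}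
    (h : WRel φ w a b) (h' : WRel φ' w' a b) : WRel (φ.prod φ') (w, w') a b where
  w3 := Prod.ext h.w3 h'.w3
  hz := Prod.ext h.hz h'.hz
  hB := Prod.ext h.hB h'.hB
  hE1 := Prod.ext h.hE1 h'.hE1
  hY := Prod.ext h.hY h'.hY
  hX := Prod.ext h.hX h'.hX
  hK := Prod.ext h.hK h'.hK
  hS := Prod.ext h.hS h'.hS
  hN := Prod.ext h.hN h'.hN

/-- **Identification.** -/
theorem exists_iso {n : ℕ} (hn : n ≠ 0)
    {G : Type u} [Group G] {φ : M →* G} {w : G} (hw : WRel φ w 1 1) (hz : φ z ≠ 1)
    {K : Type v} [Group K] [IsSimpleGroup K] {φ' : M →* K} {w' : K} (hw' : WRel φ' w' 1 1) (hgen : gp φ' w' = ⊤)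
    (hK : Nat.card K = n)
    (bound : ∀ (X : Type (max u v)) [Group X] (ψ : M →* X) (x : X), WRel ψ x 1 1 →
      Finite (gp ψ x) ∧ Nat.card (gp ψ x) ≤ n) :
    ∃ e : gp φ w ≃* K, (∀ x, e ⟨φ x, mem_left φ w x⟩ = φ' x) ∧ e ⟨w, mem_right φ w⟩ = w' := by
  obtain ⟨fF, cF⟩ := bound (G × K) (φ.prod φ') (w, w') (wrel_prod hw hw')
  set F := gp (φ.prod φ') (w, w') with hF
  have fK : Finite K := Nat.finite_of_card_ne_zero (by rw [hK]; exact hn)
  set p2 : F →* K := (MonoidHom.snd G K).comp F.subtype with hp2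
  have s2 : Function.Surjective p2 := by
    rw [← MonoidHom.range_eq_top, eq_top_iff, ← hgen, gp, Subgroup.closure_le]
    rintro y (⟨x, rfl⟩ | hy)
    · exact ⟨⟨_, mem_left (φ.prod φ') (w, w') x⟩, rfl⟩
    · rw [Set.mem_singleton_iff.1 hy]
      exact ⟨⟨_, mem_right (φ.prod φ') (w, w')⟩, rfl⟩
  have c2 : Nat.card F = Nat.card K :=
    le_antisymm (by rw [hK]; exact cF) (Nat.card_le_card_of_surjective p2 s2)
  have b2 : Function.Bijective p2 := (Nat.bijective_iff_surjective_and_card p2).2 ⟨s2, c2⟩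
  let e2 : F ≃* K := MulEquiv.ofBijective p2 b2
  have hFs : IsSimpleGroup F := e2.isSimpleGroup
  -- first projection
  have hmem : ∀ y : F, (y : G × K).1 ∈ gp φ w := by
    rintro ⟨y, hy⟩
    have h1 : y ∈ (gp φ w).comap (MonoidHom.fst G K) := by
      have hle : F ≤ (gp φ w).comap (MonoidHom.fst G K) := by
        rw [hF, gp, Subgroup.closure_le]
        rintro y (⟨x, rfl⟩ | hy)
        · exact mem_left φ w x
        · rw [Set.mem_singleton_iff.1 hy]
          exact mem_right φ w
      exact hle hy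
    exact h1
  set p1 : F →* gp φ w := ((MonoidHom.fst G K).comp F.subtype).codRestrict (gp φ w) hmem with hp1
  have s1 : Function.Surjective p1 := by
    rintro ⟨y, hy⟩
    have h1 : y ∈ F.map (MonoidHom.fst G K) := by
      have hle : gp φ w ≤ F.map (MonoidHom.fst G K) := by
        rw [gp, Subgroup.closure_le]
        rintro y (⟨x, rfl⟩ | hy)
        · exact ⟨_, mem_left (φ.prod φ') (w, w') x, rfl⟩
        · rw [Set.mem_singleton_iff.1 hy]
          exact ⟨_, mem_right (φ.prod φ') (w, w'), rfl⟩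
      exact hle hy
    obtain ⟨⟨a, b⟩, hab, rfl⟩ := h1
    exact ⟨⟨(a, b), hab⟩, rfl⟩
  have i1 : Function.Injective p1 := by
    rw [← MonoidHom.ker_eq_bot_iff]
    rcases (inferInstance : p1.ker.Normal).eq_bot_or_eq_top with h | h
    · exact h
    · exfalso
      apply hz
      have h1 : (⟨_, mem_left (φ.prod φ') (w, w') z⟩ : F) ∈ p1.ker := by rw [h]; exact Subgroup.mem_top _
      have h2 := (MonoidHom.mem_ker).1 h1
      exact congrArg Subtype.val h2
  let e1 : F ≃* gp φ w := MulEquiv.ofBijective p1 ⟨i1, s1⟩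
  have k1 : ∀ x, e1.symm ⟨φ x, mem_left φ w x⟩ = ⟨_, mem_left (φ.prod φ') (w, w') x⟩ := by
    intro x
    rw [MulEquiv.symm_apply_eq]; rfl
  have k2 : e1.symm ⟨w, mem_right φ w⟩ = ⟨_, mem_right (φ.prod φ') (w, w')⟩ := by
    rw [MulEquiv.symm_apply_eq]; rfl
  refine ⟨e1.symm.trans e2, fun x => ?_, ?_⟩
  · rw [MulEquiv.trans_apply, k1]; rfl
  · rw [MulEquiv.trans_apply, k2]; rfl

end Cfsg.Agent.SporRec.Co3.IsoFib
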