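import Cfsg.Agent.SporRec.Co3.Fusion

/-!
# Sylow 2-subgroups and control of fusion of `t` in groups of type `Co₃`

`exists_sylow`: a Sylow 2-subgroup of `G` is contained in `C_G(t)`. `mem_of_conj_mem`: if `C_G(t) ≤ H` and `t` is conjugate
in `H` to an involution of type A of `C_G(t)`, then `g t g⁻¹ ∈ H` implies `g ∈ H`.
-/

set_option autoImplicit false

namespace Cfsg.Agent.SporRec.Co3.Sylow2

open Cfsg.Agent.SporRec.TwoSp6.Cox Cfsg.Agent.SporRec.TwoSp6.Sp Cfsg.Agent.SporRec.TwoSp6.Lift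
  Cfsg.Agent.SporRec.TwoSp6.Main Cfsg.Agent.SporRec.TwoSp6.Invol Cfsg.Agent.SporRec.TwoSp6.CInvol
  Cfsg.Agent.SporRec.Co3.Fusion

/-- An element `x` conjugate to `z x`, `z` central of order two, is not centralised by a Sylow 2-subgroup. -/
theorem not_sylow_le {C : Type*} [Group C] [Finite C] {z x k : C} (hz : ∀ g, z * g = g * z) (hzz : z * z = 1)
    (hz1 : z ≠ 1) (hk : k * x * k⁻¹ = z * x) (T : Sylow 2 C) : ¬ ∀ g ∈ (T : Subgroup C), g * x = x * g := by
  intro hT
  have : Fact (Nat.Prime 2) := ⟨Nat.prime_two⟩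
  have act_zx : ∀ g : C, g * (z * x) * g⁻¹ = z * (g * x * g⁻¹) := by
    intro g
    calc g * (z * x) * g⁻¹ = (g * z) * x * g⁻¹ := by group
      _ = z * (g * x * g⁻¹) := by rw [← hz g]; group
  have zzx : ∀ y : C, z * (z * y) = y := fun y => by rw [← mul_assoc, hzz, one_mul]
  let N : Subgroup C :=
    { carrier := {g | g * x * g⁻¹ = x ∨ g * x * g⁻¹ = z * x}
      one_mem' := Or.inl (by simp)
      mul_mem' := by
        rintro g h hg hh
        have e : g * h * x * (g * h)⁻¹ = g * (h * x * h⁻¹) * g⁻¹ := by group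
        show g * h * x * (g * h)⁻¹ = x ∨ g * h * x * (g * h)⁻¹ = z * x
        rcases hh with hh | hh <;> rcases hg with hg | hg <;> rw [e, hh]
        · exact Or.inl hg
        · exact Or.inr hg
        · rw [act_zx, hg]; exact Or.inr rfl
        · rw [act_zx, hg, zzx]; exact Or.inl rfl
      inv_mem' := by
        rintro g hg
        show g⁻¹ * x * g⁻¹⁻¹ = x ∨ g⁻¹ * x * g⁻¹⁻¹ = z * x
        rcases hg with hg | hg
        · left
          conv_lhs => rw [← hg]
          group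
        · right
          have h1 : g⁻¹ * (z * x) * g = x := by rw [← hg]; group
          have h2 := act_zx g⁻¹
          rw [inv_inv, h1] at h2
          have h3 := zzx (g⁻¹ * x * g)
          rw [← h2] at h3
          rw [inv_inv]
          exact h3.symm }
  have hkN : k ∈ N := Or.inr hk
  have hzxx : z * x ≠ x := fun h => hz1 (mul_eq_right.1 h)
  set K : Subgroup C := Subgroup.centralizer {x} with hK
  have memK : ∀ g, g ∈ K ↔ g * x * g⁻¹ = x := by
    intro g
    rw [hK, Subgroup.mem_centralizer_singleton_iff, mul_inv_eq_iff_eq_mul]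
  have hidx : (K.subgroupOf N).index = 2 := by
    rw [Subgroup.index_eq_two_iff]
    refine ⟨⟨k, hkN⟩, ?_⟩
    rintro ⟨g, hg⟩
    rw [Subgroup.mem_subgroupOf, Subgroup.mem_subgroupOf, memK, memK]
    have e : (g * k) * x * (g * k)⁻¹ = z * (g * x * g⁻¹) := by
      have : (g * k) * x * (g * k)⁻¹ = g * (k * x * k⁻¹) * g⁻¹ := by group
      rw [this, hk, act_zx]
    show Xor ((g * k) * x * (g * k)⁻¹ = x) (g * x * g⁻¹ = x)
    rw [e]
    rcases hg with hg | hg
    · exact Or.inr ⟨hg, by rw [hg]; exact hzxx⟩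
    · exact Or.inl ⟨by rw [hg, zzx], by rw [hg]; exact hzxx⟩
  have hKN : K ≤ N := fun g hg => Or.inl ((memK g).1 hg)
  have h1 : Nat.card (K.subgroupOf N) * 2 = Nat.card N := by
    rw [← hidx]; exact Subgroup.card_mul_index _
  have h2 : Nat.card (K.subgroupOf N) = Nat.card K :=
    Nat.card_congr (Subgroup.subgroupOfEquivOfLe hKN).toEquiv
  have hTK : (T : Subgroup C) ≤ K := by
    intro g hg
    rw [memK, mul_inv_eq_iff_eq_mul]
    exact hT g hg
  have h3 : Nat.card (T : Subgroup C) ∣ Nat.card K := Subgroup.card_dvd_of_le hTK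
  have h4 : Nat.card N ∣ Nat.card C := Subgroup.card_subgroup_dvd_card _
  have h5 : Nat.card (T : Subgroup C) * 2 ∣ Nat.card (T : Subgroup C) * (T : Subgroup C).index := by
    rw [Subgroup.card_mul_index]
    refine dvd_trans (Nat.mul_dvd_mul_right h3 2) ?_
    rw [← h2, h1]; exact h4
  have h6 : 2 ∣ (T : Subgroup C).index := Nat.dvd_of_mul_dvd_mul_left Nat.card_pos h5
  exact T.not_dvd_index h6

section

variable {G : Type*} [Group G] [Finite G] {t : G} {π : Subgroup.centralizer ({t} : Set G) →* S}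

omit [Finite G] in
theorem exists_conj_mul (N : NS (tC t) π) {x : Subgroup.centralizer ({t} : Set G)}
    (h : TwoSp6.CInvol.IsA π x ∨ TwoSp6.CInvol.IsB π x) : ∃ k, k * x * k⁻¹ = tC t * x := by
  rcases h with h | h
  · exact NS.conj_A N h (NS.isA_mul N h)
  · exact NS.conj_B N h (NS.isB_mul N h)

/-- A Sylow 2-subgroup of `C_G(t)` is a Sylow 2-subgroup of `G`. -/
theorem exists_sylow (N : NS (tC t) π) : ∃ T : Sylow 2 G, t ∈ (T : Subgroup G) ∧
    ∀ x ∈ (T : Subgroup G), x * t = t * x := by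
  have : Fact (Nat.Prime 2) := ⟨Nat.prime_two⟩
  set C := Subgroup.centralizer ({t} : Set G) with hC
  have hp : IsPGroup 2 (Subgroup.zpowers (tC t)) := by
    rw [IsPGroup.iff_card]
    exact ⟨1, by rw [card_zpowers N.z_ne N.z_sq, pow_one]⟩
  obtain ⟨T, hT⟩ := hp.exists_le_sylow
  have hTt : tC t ∈ (T : Subgroup C) := hT (Subgroup.mem_zpowers _)
  set T' : Subgroup G := (T : Subgroup C).map C.subtype with hT'
  have hT'2 : IsPGroup 2 T' := T.isPGroup'.map _
  have hT'C : T' ≤ C := by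
    rw [hT']
    rintro _ ⟨y, -, rfl⟩
    exact y.2
  have htT' : t ∈ T' := ⟨tC t, hTt, rfl⟩
  obtain ⟨P, hP⟩ := hT'2.exists_le_sylow
  -- elements of `P ∩ C` lie in `T'`
  have hPC : ∀ x ∈ (P : Subgroup G), x * t = t * x → x ∈ T' := by
    intro x hx hxt
    have h1 : IsPGroup 2 ((P : Subgroup G).subgroupOf C) :=
      P.isPGroup'.comap_of_injective C.subtype (Subgroup.subtype_injective _)
    have h2 : (T : Subgroup C) ≤ (P : Subgroup G).subgroupOf C := by
      intro y hy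
      exact hP ⟨y, hy, rfl⟩
    have h3 := T.is_maximal' h1 h2
    have h4 : (⟨x, mem_cent.2 hxt⟩ : C) ∈ (T : Subgroup C) := by
      rw [← h3]; exact hx
    exact ⟨_, h4, rfl⟩
  have hPT : (P : Subgroup G) ≤ T' := by
    by_contra hcon
    have hnil : Group.IsNilpotent (P : Subgroup G) := P.isPGroup'.isNilpotent
    have hnc : NormalizerCondition (P : Subgroup G) := Group.normalizerCondition_of_isNilpotent
    have hne : T'.subgroupOf (P : Subgroup G) ≠ ⊤ := by
      intro h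
      apply hcon
      intro x hx
      have : (⟨x, hx⟩ : (P : Subgroup G)) ∈ T'.subgroupOf (P : Subgroup G) := by rw [h]; exact Subgroup.mem_top _
      exact this
    have hlt := hnc _ (lt_top_iff_ne_top.mpr hne)
    obtain ⟨x, hxN, hxT⟩ := SetLike.exists_of_lt hlt
    have hconj : ∀ y ∈ T', (x : G) * y * (x : G)⁻¹ ∈ T' := by
      intro y hy
      exact (Subgroup.mem_normalizer_iff.mp hxN ⟨y, hP hy⟩).mp hy
    have hconj' : ∀ y ∈ T', (x : G)⁻¹ * y * (x : G) ∈ T' := by
      intro y hy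
      have := (Subgroup.mem_normalizer_iff.mp (inv_mem hxN) ⟨y, hP hy⟩).mp hy
      have e : ((x⁻¹ * ⟨y, hP hy⟩ * x⁻¹⁻¹ : (P : Subgroup G)) : G) = (x : G)⁻¹ * y * (x : G) := by
        simp
      rw [← e]; exact this
    apply hxT
    show (x : G) ∈ T'
    apply hPC _ x.2
    have h1 := hconj t htT'
    have h2 : ((x : G) * t * (x : G)⁻¹) * t = t * ((x : G) * t * (x : G)⁻¹) := mem_cent.1 (hT'C h1)
    rcases fused_cases N h2 with h3 | ⟨h3, h4⟩
    · exact mul_inv_eq_iff_eq_mul.1 h3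
    · exfalso
      obtain ⟨k, hk⟩ := exists_conj_mul N (Or.inl h4)
      apply not_sylow_le N.z_comm N.z_sq N.z_ne hk T
      intro g hg
      apply Subtype.ext
      show (g : G) * ((x : G) * t * (x : G)⁻¹) = ((x : G) * t * (x : G)⁻¹) * (g : G)
      have h5 := hconj' (g : G) ⟨g, hg, rfl⟩
      have h6 : ((x : G)⁻¹ * (g : G) * (x : G)) * t = t * ((x : G)⁻¹ * (g : G) * (x : G)) := mem_cent.1 (hT'C h5)
      calc (g : G) * ((x : G) * t * (x : G)⁻¹) = (x : G) * (((x : G)⁻¹ * (g : G) * (x : G)) * t) * (x : G)⁻¹ := by group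
        _ = ((x : G) * t * (x : G)⁻¹) * (g : G) := by rw [h6]; group
  exact ⟨P, hP htT', fun x hx => mem_cent.1 (hT'C (hPT hx))⟩

/-- **Control of fusion of `t` in `H`.** -/
theorem mem_of_conj_mem (N : NS (tC t) π) (H : Subgroup G) (hCH : Subgroup.centralizer ({t} : Set G) ≤ H) {w : G}
    (hw : w ∈ H) (hwA : InA π (w * t * w⁻¹)) (g : G) (hg : g * t * g⁻¹ ∈ H) : g ∈ H := by
  have : Fact (Nat.Prime 2) := ⟨Nat.prime_two⟩
  obtain ⟨P, htP, hPC⟩ := exists_sylow N
  have hPH : (P : Subgroup G) ≤ H := fun x hx => hCH (mem_cent.2 (hPC x hx))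
  set x : H := ⟨g * t * g⁻¹, hg⟩ with hx
  have hx2 : IsPGroup 2 (Subgroup.zpowers x) := by
    have h1 : x ^ 2 = 1 := by
      apply Subtype.ext
      show (g * t * g⁻¹) ^ 2 = 1
      rw [pow_two]
      have : g * t * g⁻¹ * (g * t * g⁻¹) = g * (t * t) * g⁻¹ := by group
      rw [this, t_sq N]; group
    have h2 : orderOf x ∣ 2 := orderOf_dvd_of_pow_eq_one h1
    apply IsPGroup.of_card (n := (if orderOf x = 1 then 0 else 1))
    rw [Nat.card_zpowers]
    rcases (Nat.dvd_prime Nat.prime_two).1 h2 with h3 | h3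
    · rw [h3]; simp
    · rw [h3]; simp
  obtain ⟨Q, hQ⟩ := hx2.exists_le_sylow
  obtain ⟨k, hk⟩ := MulAction.exists_smul_eq H Q (P.subtype hPH)
  have hxk : k * x * k⁻¹ ∈ ((P.subtype hPH : Sylow 2 H) : Subgroup H) := by
    rw [← hk]
    show k * x * k⁻¹ ∈ ((k • Q : Sylow 2 H) : Subgroup H)
    rw [Sylow.smul_def, Sylow.pointwise_smul_def]
    exact ⟨x, hQ (Subgroup.mem_zpowers x), rfl⟩
  have hxk' : ((k * x * k⁻¹ : H) : G) ∈ (P : Subgroup G) := hxk
  have hv : ((k * x * k⁻¹ : H) : G) = ((k : G) * g) * t * ((k : G) * g)⁻¹ := by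
    show (k : G) * (g * t * g⁻¹) * (k : G)⁻¹ = _
    group
  rw [hv] at hxk'
  have hgk : (k : G) * g ∈ H → g ∈ H := fun h => (Subgroup.mul_mem_cancel_left H k.2).1 h
  apply hgk
  rcases fused_cases N (hPC _ hxk') with h3 | h3
  · exact hCH (mem_cent.2 (mul_inv_eq_iff_eq_mul.1 h3))
  · obtain ⟨c, c1, c2⟩ := InA.conj N hwA h3
    have h4 : (c * w)⁻¹ * ((k : G) * g) ∈ Subgroup.centralizer ({t} : Set G) := by
      rw [mem_cent]
      have e1 : (c * w) * t * (c * w)⁻¹ = ((k : G) * g) * t * ((k : G) * g)⁻¹ := by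
        rw [← c2]; group
      calc (c * w)⁻¹ * ((k : G) * g) * t = (c * w)⁻¹ * (((k : G) * g) * t * ((k : G) * g)⁻¹) * ((k : G) * g) := by group
        _ = (c * w)⁻¹ * ((c * w) * t * (c * w)⁻¹) * ((k : G) * g) := by rw [e1]
        _ = t * ((c * w)⁻¹ * ((k : G) * g)) := by group
    have h5 : c * w ∈ H := mul_mem (hCH (mem_cent.2 c1)) hw
    have := mul_mem h5 (hCH h4)
    rwa [mul_inv_cancel_left] at this

end

end Cfsg.Agent.SporRec.Co3.Sylow2
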