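import Cfsg.Agent.SporRec.Co3.Pim

/-!
# Maximal 2-subgroups without 2-central involutions in the double cover of Sp(6, 2)
-/

set_option autoImplicit false

namespace Cfsg.Agent.SporRec.Co3

open Matrix

/-- What is used of the double cover `K` of `Sp(6, 2)`; `Z` is a class of elements containing the
central involution `t`. -/
structure KData {K : Type*} [Group K] (π : K →* Sp) (t : K) (Z : K → Prop) : Prop where
  tc : ∀ x, t * x = x * t
  tt : t * t = 1
  t1 : t ≠ 1
  surj : Function.Surjective π
  ker : ∀ x, π x = 1 → x = 1 ∨ x = t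
  pt : π t = 1
  sq : ∀ (x : K) (M : M3), M.IsSymm → (π x : M6) = U M → x * x = if q M = 0 then 1 else t
  Zt : Z t
  Zconj : ∀ x c, Z x → Z (c * x * c⁻¹)
  conjU : ∀ x, x * x = 1 → x ≠ 1 → ¬ Z x → ∃ c, (π (c * x * c⁻¹) : M6) = U 1
  notz : ∀ x, (π x : M6) = U 1 → ¬ Z x

variable {K : Type*} [Group K] {π : K →* Sp} {t : K} {Z : K → Prop}

theorem conj_V {P Q M : M3} (h : P * Qᵀ = 1) : V P Q * U M = U (P * M * Pᵀ) * V P Q := by
  have h2 : Qᵀ * P = 1 := mul_eq_one_comm.mp h
  have h3 : Pᵀ * Q = 1 := by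
    have := congrArg Matrix.transpose h2
    rwa [transpose_mul, transpose_transpose, transpose_one] at this
  rw [V, U, U, fromBlocks_multiply, fromBlocks_multiply]
  simp only [mul_one, mul_zero, add_zero, one_mul, zero_mul, zero_add]
  rw [Matrix.mul_assoc (P * M), h3, mul_one]

namespace KData

variable (h : KData π t Z)

include h

theorem eq_or {x y : K} (hxy : (π x : M6) = π y) : x = y ∨ x = t * y := by
  have h1 : π (x * y⁻¹) = 1 := by
    rw [map_mul, map_inv, Subtype.ext hxy, mul_inv_cancel]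
  rcases h.ker _ h1 with h2 | h2
  · left; exact mul_inv_eq_one.mp h2
  · right; rw [← h2]; group

theorem pi_t_mul (x : K) : π (t * x) = π x := by rw [map_mul, h.pt, one_mul]

theorem t_inv : t⁻¹ = t := inv_eq_of_mul_eq_one_right h.tt

theorem comm_eq {x y : K} {M N : M3} (hM : M.IsSymm) (hN : N.IsSymm) (hx : (π x : M6) = U M)
    (hy : (π y : M6) = U N) : x * y = if bq M N = 0 then y * x else t * (y * x) := by
  have hxy : (π (x * y) : M6) = U (M + N) := by
    rw [map_mul]
    show (π x : M6) * (π y : M6) = _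
    rw [hx, hy, U_mul]
  have h1 := h.sq _ _ hM hx
  have h2 := h.sq _ _ hN hy
  have h3 := h.sq _ _ (hM.add hN) hxy
  have e : x * y = (x * y * (x * y)) * (y⁻¹ * x⁻¹) := by group
  have hc : bq M N = q (M + N) + q M + q N := rfl
  have hcase : ∀ a : ZMod 2, a = 0 ∨ a = 1 := by decide
  have hti := h.t_inv
  have htx := h.tc
  -- inverses
  have hxi : x⁻¹ = if q M = 0 then x else t * x := by
    split_ifs with hq
    · rw [if_pos hq] at h1; exact inv_eq_of_mul_eq_one_right h1
    · rw [if_neg hq] at h1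
      apply inv_eq_of_mul_eq_one_right
      rw [← mul_assoc, ← htx, mul_assoc, h1, h.tt]
  have hyi : y⁻¹ = if q N = 0 then y else t * y := by
    split_ifs with hq
    · rw [if_pos hq] at h2; exact inv_eq_of_mul_eq_one_right h2
    · rw [if_neg hq] at h2
      apply inv_eq_of_mul_eq_one_right
      rw [← mul_assoc, ← htx, mul_assoc, h2, h.tt]
  rw [e, h3, hxi, hyi, hc]
  have h01 : (1 : ZMod 2) ≠ 0 := by decide
  have t2 : ∀ a : K, t * (t * a) = a := fun a => by rw [← mul_assoc, h.tt, one_mul]
  have tm : ∀ a b : K, a * (t * b) = t * (a * b) := fun a b => by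
    rw [← mul_assoc, ← htx, mul_assoc]
  rcases hcase (q M) with hqM | hqM <;> rcases hcase (q N) with hqN | hqN <;>
    rcases hcase (q (M + N)) with hqS | hqS <;>
    simp only [hqM, hqN, hqS, if_true, if_neg h01, add_zero, zero_add, one_mul, mul_assoc, t2, tm,
      show (1 : ZMod 2) + 1 = 0 from by decide, show (1 : ZMod 2) + 0 = 1 from by decide]

theorem conj_eq {x r : K} {M N : M3} (hM : M.IsSymm) (hN : N.IsSymm) (hx : (π x : M6) = U M)
    (hr : (π r : M6) = U N) : r * x * r⁻¹ = if bq M N = 0 then x else t * x := by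
  have hb : bq N M = bq M N := by
    rw [bq, bq, add_comm N M, add_assoc, add_comm (q N), ← add_assoc]
  have h1 := h.comm_eq hN hM hr hx
  rw [h1, hb]
  split_ifs
  · group
  · group

/-- If `P M Pᵀ = 1` then the elements over `U M` are not in `Z`. -/
theorem not_Z {x : K} {P Q M : M3} (hPQ : P * Qᵀ = 1) (hP : P * M * Pᵀ = 1)
    (hx : (π x : M6) = U M) : ¬ Z x := by
  obtain ⟨c, hc⟩ := h.surj ⟨V P Q, V_mem hPQ⟩
  have h1 : (π (c * x * c⁻¹) : M6) = U 1 := by
    have h2 : π c * π x = ⟨U 1, U_mem (by exact transpose_one)⟩ * π c := by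
      apply Subtype.ext
      show (π c : M6) * (π x : M6) = U 1 * (π c : M6)
      rw [hc, hx]
      show V P Q * U M = U 1 * V P Q
      rw [conj_V hPQ, hP]
    rw [map_mul, map_mul, map_inv, h2, mul_inv_cancel_right]
  intro hz
  exact h.notz _ h1 (h.Zconj x c hz)

theorem pim_of_invol {x : K} (hx : x * x = 1) (hx1 : x ≠ 1) (hZ : ¬ Z x) : Pim (π x) := by
  obtain ⟨c, hc⟩ := h.conjU x hx hx1 hZ
  have h1 : Pim ((π c * π x * (π c)⁻¹ : Sp) : M6) := by
    have : (π c * π x * (π c)⁻¹ : Sp) = π (c * x * c⁻¹) := by simp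
    rw [this, hc]; exact pim_U_one
  exact pim_of_conj _ _ h1

/-- The form of the elements of a `Z`-free 2-subgroup with a central element over `U 1`. -/
theorem form {S : Subgroup K} (hp : IsPGroup 2 S) (hfree : ∀ x ∈ S, ¬ Z x) {y : K} (hyS : y ∈ S)
    (hy : (π y : M6) = U 1) (hyc : ∀ x ∈ S, x * y = y * x) {x : K} (hx : x ∈ S) :
    ∃ M : M3, M.IsSymm ∧ (π x : M6) = U M ∧ (x ≠ 1 → dt M = 1) ∧ x * x = 1 := by
  have htS : t ∉ S := fun h' => hfree t h' h.Zt
  by_cases hx1 : x = 1
  · subst hx1
    refine ⟨0, transpose_zero, ?_, fun h' => absurd rfl h', one_mul 1⟩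
    rw [map_one, U_zero]; rfl
  have hcomm : (π x : M6) * U 1 = U 1 * (π x : M6) := by
    have := congrArg (fun z => (π z : M6)) (hyc x hx)
    simp only [map_mul] at this
    rw [← hy]; exact this
  obtain ⟨A, B, hAB, hA, hB⟩ := centralizer_form (π x) hcomm
  have hAp := mem_perms hA
  have hA2 : A * A = 1 := by
    rcases perms_cases A hAp with h1 | h1
    · exact h1
    · obtain ⟨k, hk⟩ := hp ⟨x, hx⟩
      have hk' : x ^ 2 ^ k = 1 := by simpa using congrArg Subtype.val hk
      have h2 : ∀ n : ℕ, ∃ B', ((π (x ^ n)) : M6) = fromBlocks (A ^ n) B' 0 (A ^ n) := by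
        intro n
        induction n with
        | zero => exact ⟨0, by simp⟩
        | succ n ih =>
          obtain ⟨B', hB'⟩ := ih
          refine ⟨A ^ n * B + B' * A, ?_⟩
          rw [pow_succ, map_mul]
          show (π (x ^ n) : M6) * (π x : M6) = _
          rw [hB', hAB, fromBlocks_multiply]
          simp [pow_succ]
      obtain ⟨B', hB'⟩ := h2 (2 ^ k)
      rw [hk', map_one] at hB'
      have h3 : A ^ 2 ^ k = 1 := by
        have : (fromBlocks 1 0 0 1 : M6) = fromBlocks (A ^ 2 ^ k) B' 0 (A ^ 2 ^ k) := by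
          rw [← hB', fromBlocks_one]; rfl
        exact (fromBlocks_inj.mp this).1.symm
      have h4 : A ^ 3 = 1 := by rw [pow_succ, pow_two]; exact h1
      have h5 : orderOf A ∣ 2 ^ k := orderOf_dvd_of_pow_eq_one h3
      have h6 : orderOf A ∣ 3 := orderOf_dvd_of_pow_eq_one h4
      have h7 : orderOf A ∣ Nat.gcd (2 ^ k) 3 := Nat.dvd_gcd h5 h6
      have h8 : Nat.gcd (2 ^ k) 3 = 1 := Nat.Coprime.pow_left k (by norm_num)
      rw [h8, Nat.dvd_one, orderOf_eq_one_iff] at h7
      rw [h7, one_mul]
  rcases perms_transp A hAp hA2 with h1 | ⟨k, hk⟩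
  · subst h1
    rw [transpose_one, mul_one] at hB
    have hxU : (π x : M6) = U B := by rw [hAB]; rfl
    have hxx := h.sq x B hB hxU
    have hxx1 : x * x = 1 := by
      split_ifs at hxx with hq
      · exact hxx
      · exact absurd (hxx ▸ S.mul_mem hx hx) htS
    refine ⟨B, hB, hxU, fun _ => ?_, hxx1⟩
    have := h.pim_of_invol hxx1 hx1 (hfree x hx)
    rw [hxU] at this
    exact dt_of_pim this
  · exfalso
    obtain ⟨hAs, hAA⟩ := transps_symm _ hk
    simp only at hAs hAA
    obtain ⟨M, hMdef⟩ : ∃ M, M = B * Aᵀ := ⟨_, rfl⟩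
    rw [← hMdef] at hB
    have hBM : B = M * A := by
      rw [hMdef, hAs, Matrix.mul_assoc, hAA, Matrix.mul_one]
    have hN : A * B + B * A = A * M * A + M := by
      rw [hBM, Matrix.mul_assoc M, hAA, Matrix.mul_one, Matrix.mul_assoc]
    have hNs : (A * M * A + M).IsSymm := by
      rw [Matrix.IsSymm, transpose_add, transpose_mul, transpose_mul, hAs, hB.eq, Matrix.mul_assoc]
    have hxxU : (π (x * x) : M6) = U (A * M * A + M) := by
      rw [map_mul]
      show (π x : M6) * (π x : M6) = _
      rw [hAB, fromBlocks_multiply]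
      simp only [mul_zero, add_zero, zero_mul, zero_add]
      rw [hAA, hN]; rfl
    have hdt : dt (A * M * A + M) = 0 := by
      have := transps_det _ hk (M 0 0) (M 1 1) (M 2 2) (M 0 1) (M 0 2) (M 1 2)
      rw [← eq_sm hB] at this
      exact this
    have hz := h.sq _ _ hNs hxxU
    have hz1 : x * x * (x * x) = 1 := by
      split_ifs at hz with hq
      · exact hz
      · exact absurd (hz ▸ S.mul_mem (S.mul_mem hx hx) (S.mul_mem hx hx)) htS
    have hxx1 : x * x = 1 := by
      by_contra hne
      have := h.pim_of_invol hz1 hne (hfree _ (S.mul_mem hx hx))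
      rw [hxxU] at this
      rw [dt_of_pim this] at hdt
      exact absurd hdt (by decide)
    have hN0 : A * M * A = M := by
      rw [hxx1, map_one] at hxxU
      have : U 0 = U (A * M * A + M) := by rw [← hxxU, U_zero]; rfl
      have h2 := U_injective this
      have h3 : A * M * A + M + M = M := by rw [← h2, zero_add]
      have h4 : M + M = 0 := by
        ext i j; exact CharTwo.add_self_eq_zero _
      rw [add_assoc, h4, add_zero] at h3
      exact h3
    have hA1 : A ≠ 1 := by
      intro h2
      rw [h2] at hk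
      revert hk
      have : ∀ k : Fin 3, ((1 : M3), k) ∉ transps := by decide
      exact this k
    have hxy1 : x * y ≠ 1 := by
      intro h2
      have h3 : π x * π y = 1 := by rw [← map_mul, h2, map_one]
      have h4 : (π x : M6) * (π y : M6) = 1 := congrArg Subtype.val h3
      rw [hAB, hy, U, fromBlocks_multiply, ← fromBlocks_one, fromBlocks_inj] at h4
      simp only [mul_one, mul_zero, add_zero] at h4
      exact hA1 h4.1
    have hyy : y * y = 1 := by
      have h3 := h.sq y 1 transpose_one hy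
      rwa [if_pos (by decide)] at h3
    have hxyxy : x * y * (x * y) = 1 := by
      calc x * y * (x * y) = x * (y * x) * y := by group
        _ = x * (x * y) * y := by rw [hyc x hx]
        _ = (x * x) * (y * y) := by group
        _ = 1 := by rw [hxx1, hyy, one_mul]
    have hp1 := h.pim_of_invol hxx1 hx1 (hfree x hx)
    have hp2 := h.pim_of_invol hxyxy hxy1 (hfree _ (S.mul_mem hx hyS))
    have hxyU : (π (x * y) : M6) = fromBlocks A ((M + 1) * A) 0 A := by
      rw [map_mul]
      show (π x : M6) * (π y : M6) = _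
      rw [hAB, hy, U, fromBlocks_multiply]
      simp only [mul_one, mul_zero, add_zero, zero_mul, zero_add]
      rw [Matrix.add_mul, Matrix.one_mul, hBM, add_comm]
    rw [hxyU] at hp2
    rw [hAB, hBM] at hp1
    exact not_pim_transp (A, k) hk M hB hN0 hp1 hp2

end KData

end Cfsg.Agent.SporRec.Co3
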