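import Cfsg.Agent.SporRec.Co3DC.PhiW
import Cfsg.Agent.SporRec.Co3.IsoFib
import Cfsg.Agent.SporRec.Co3.CWords
import Cfsg.Agent.SporRec.Co3.Sylow2
import Cfsg.Agent.SporRec.Co3.FiveHom
import Cfsg.Agent.SporRec.Co3.Close
import Cfsg.Agent.SporRec.TwoSp6.KOf

/-!
# Assembly of the recognition theorem of the third Conway group
-/

set_option autoImplicit false

namespace Cfsg.Agent.SporRec.Co3.Assemble

open Cfsg.Agent.SporRec.TwoSp6.Cox Cfsg.Agent.SporRec.TwoSp6.Sp Cfsg.Agent.SporRec.TwoSp6.Lift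
  Cfsg.Agent.SporRec.TwoSp6.Main Cfsg.Agent.SporRec.TwoSp6.Invol Cfsg.Agent.SporRec.TwoSp6.CInvol
  Cfsg.Agent.SporRec.TwoSp6.Model Cfsg.Agent.SporRec.Co3.Fusion Cfsg.Agent.SporRec.Co3.IsoFib
  Cfsg.Agent.SporRec.Co3.CWords Cfsg.Agent.SporRec.Co3DC

universe u v

/-- The subgroup `S₅` of the generated group which centralises the four-group `⟨y, u⟩`. -/
structure Five {K : Type*} [Group K] (φ : M →* K) (f : P5 →* K) : Prop where
  hz : f dbl = φ z
  hd : f s01 = φ (W wd)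
  hv : f dbl' = φ (W wv')
  hy : ∀ σ, f σ * φ (W wy) = φ (W wy) * f σ
  hu : ∀ σ, f σ * φ (W wu) = φ (W wu) * f σ

theorem bW_eq : bW = Cfsg.Agent.SporRec.Co3.PureE.ew 2 := by decide +kernel

/-- **The recognition theorem of the third Conway group**, given the bound for the group presented by `M` and `w` and a
simple group generated in this way. -/
theorem exists_equiv {K : Type v} [Group K] [IsSimpleGroup K] {φ' : M →* K} {w' : K} (hw' : WRel φ' w' 1 1)
    (hgen : gp φ' w' = ⊤) (hK : Nat.card K = 495766656000) (h5 : ∃ f' : P5 →* K, Five φ' f')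
    (bound : ∀ (X : Type (max u v)) [Group X] (ψ : M →* X) (x : X), WRel ψ x 1 1 →
      Finite (gp ψ x) ∧ Nat.card (gp ψ x) ≤ 495766656000)
    {G : Type u} [Group G] [Finite G] (hO : Cfsg.oddCore G = ⊥) (hZ : Subgroup.center G = ⊥)
    (t : G) (ht : orderOf t = 2)
    (hC : Cfsg.IsNonsplitDoubleCover (Subgroup.centralizer ({t} : Set G))
      (Matrix.symplecticGroup (Fin 3) (ZMod 2))) : Nonempty (G ≃* K) := by
  obtain ⟨π, e, N, ez, ha, g, hg, hgt⟩ := Cfsg.Agent.SporRec.Co3.PureE.exists_norm hO hZ t ht hC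
  set φ : M →* G := (Subgroup.centralizer ({t} : Set G)).subtype.comp e.toMonoidHom with hφ
  have φe : ∀ x, φ x = (e x : G) := fun _ => rfl
  have φz : φ z = t := by rw [φe, ez]; rfl
  have H : EAct.Hyp φ := by
    refine ⟨?_, ?_⟩
    · intro x y hxy
      exact e.injective (Subtype.ext hxy)
    · intro g hg
      rw [φz] at hg
      exact ⟨e.symm ⟨g, mem_cent.2 hg⟩, by rw [φe, MulEquiv.apply_symm_apply]⟩
  have hn : ∀ i < 16, ∃ j < 16, g⁻¹ * EAct.ee φ i * g = EAct.ee φ j := by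
    intro i hi
    obtain ⟨j, hj, e⟩ := hg i hi
    rw [PhiW.ew_eq i hi, PhiW.ew_eq j hj] at e
    exact ⟨j, hj, e⟩
  obtain ⟨w, hw⟩ := Forced.exists_wrel_one H hn (by rw [φz]; exact hgt)
  obtain ⟨eH, eH1, eH2⟩ := exists_iso (by norm_num) hw (by rw [φz]; exact t_ne N) hw' hgen hK bound
  have hCH : Subgroup.centralizer ({t} : Set G) ≤ gp φ w := by
    intro x hx
    obtain ⟨y, rfl⟩ := H.cent x (by rw [φz]; exact mem_cent.1 hx)
    exact mem_left φ w y
  have tH : t ∈ gp φ w := hCH (tC t).2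
  have hwv : ∀ l : List ℕ, e (W l) = wv (fun i => e (gen i)) (tC t) l := by
    intro l
    exact Cfsg.Agent.SporRec.TwoSp6.Order.map_wv e.toMonoidHom (fun _ => rfl) ez l
  have hwA : InA π (w⁻¹ * t * w⁻¹⁻¹) := by
    have e1 : w⁻¹ * t * w⁻¹⁻¹ = φ (W bW) := by
      have := hw.hz
      rw [φz] at this
      rw [inv_inv, mul_assoc, this, inv_mul_cancel_left]
    rw [e1]
    refine ⟨(e (W bW)).2, ?_⟩
    have e2 : (⟨φ (W bW), (e (W bW)).2⟩ : Subgroup.centralizer ({t} : Set G)) =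
        wv (fun i => e (gen i)) (tC t) (Cfsg.Agent.SporRec.Co3.PureE.ew 2) := by
      rw [← bW_eq, ← hwv]
      rfl
    rw [e2]
    exact Cfsg.Agent.SporRec.Co3.PureE.eC_isA N ha (by norm_num) (le_refl 2)
  have hZg : ∀ x : G, x * t * x⁻¹ ∈ gp φ w → x ∈ gp φ w :=
    Sylow2.mem_of_conj_mem N (gp φ w) hCH (inv_mem (mem_right φ w)) hwA
  -- the data
  have kd : KData π (⟨t, t_mem_Cn t⟩ : Cn t) (Zt t) := by
    refine Cfsg.Agent.SporRec.TwoSp6.KOf.NS.kdata N (Zt t) ⟨1, by rw [one_mul, inv_one, mul_one]; rfl⟩ ?_ ?_ ?_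
    · rintro x c ⟨g, hg⟩
      refine ⟨(c : G) * g, ?_⟩
      show (c : G) * g * t * ((c : G) * g)⁻¹ = (c : G) * x * (c : G)⁻¹
      rw [← hg]; group
    · intro x hx
      exact fused_A ht hO hZ N ⟨x.2, hx⟩
    · rintro x hx ⟨g, hg⟩
      exact not_fused_B N ⟨x.2, hx⟩ g hg
  obtain ⟨f', F⟩ := h5
  have hx : ∀ x : M, eH.symm (φ' x) = ⟨φ x, mem_left φ w x⟩ := by
    intro x
    rw [MulEquiv.symm_apply_eq, eH1]
  set f : P5 →* G := ((gp φ w).subtype.comp eH.symm.toMonoidHom).comp f' with hf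
  have fe : ∀ σ, f σ = (eH.symm (f' σ) : G) := fun _ => rfl
  have fcomm : ∀ (σ : P5) (x : M), f' σ * φ' x = φ' x * f' σ → f σ * φ x = φ x * f σ := by
    intro σ x h
    have := congrArg (fun y => (eH.symm y : G)) h
    simp only [map_mul, hx] at this
    exact this
  have fval : ∀ (σ : P5) (x : M), f' σ = φ' x → f σ = φ x := by
    intro σ x h
    rw [fe, h, hx]
  have D : CData t (gp φ w) π (e (W wy)) (e (W wu)) (e (W wd)) (e (W wv')) f := by
    have hfz : f dbl = t := by rw [fval dbl z F.hz, φz]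
    refine ⟨kd, ⟨?_, ?_, ?_⟩, ?_, hZg, tH, ?_, ?_, ?_, ?_, hfz, ?_, ?_⟩
    · rw [hwv]; exact pi_y ha N.map_z
    · rw [hwv]; exact pi_u ha N.map_z
    · rw [hwv]; exact pi_d ha N.map_z
    · rw [hwv]; exact pi_v ha N.map_z
    · apply FiveHom.injective_of
      rw [hfz]; exact t_ne N
    · intro σ
      exact (eH.symm (f' σ)).2
    · intro σ
      exact fcomm σ _ (F.hy σ)
    · intro σ
      exact fcomm σ _ (F.hu σ)
    · exact fval _ _ F.hd
    · exact fval _ _ F.hv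
  obtain ⟨T, htT, hT⟩ := Sylow2.exists_sylow N
  have htop := D.eq_top T htT hT
  exact ⟨(Subgroup.topEquiv.symm.trans (MulEquiv.subgroupCongr htop.symm)).trans eH⟩

end Cfsg.Agent.SporRec.Co3.Assemble
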