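import Mathlib

/-!
# Subgroups of the symmetric group on five points without double transpositions
-/

set_option autoImplicit false

namespace Cfsg.Agent.SporRec.Co3

open Equiv

abbrev P5 : Type := Equiv.Perm (Fin 5)

/-- The transposition (0 1). -/
def s01 : P5 := swap 0 1

/-- The double transposition (0 1)(2 3). -/
def dbl : P5 := swap 0 1 * swap 2 3

/-- The double transposition (0 2)(1 3). -/
def dbl' : P5 := swap 0 2 * swap 1 3

theorem invol_cases : ∀ σ : P5, σ * σ = 1 → σ = 1 ∨ (∃ ρ, σ = ρ * s01 * ρ⁻¹) ∨
    ∃ ρ, σ = ρ * dbl * ρ⁻¹ := by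
  decide +kernel

theorem central_eq_one : ∀ σ : P5, (∀ ρ : P5, ρ * σ = σ * ρ) → σ = 1 := by
  decide +kernel

/-- Double transpositions: involutions with one fixed point. -/
def isD (x : P5) : Prop := x * x = 1 ∧ (Finset.univ.filter fun i => x i = i).card = 1

instance (x : P5) : Decidable (isD x) := by unfold isD; infer_instance

theorem isD_conj : ∀ x : P5, isD x → ∃ ρ, x = ρ * dbl * ρ⁻¹ := by decide +kernel

theorem five_three : ∀ r : P5, r ^ 5 = 1 → r ≠ 1 → ∀ s : P5, s ^ 3 = 1 → s ≠ 1 →
    isD (r * r * s) ∨ isD (r * r * r * s) ∨ isD (r * r * s * r * s * s) := by decide +kernel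

theorem klein : ∀ a : P5, a * a = 1 → a ≠ 1 → ∀ b : P5, b * b = 1 → b ≠ 1 → a ≠ b →
    a * b = b * a → isD a ∨ isD b ∨ isD (a * b) := by decide +kernel

theorem four_cycle : ∀ a : P5, a ^ 4 = 1 → a * a ≠ 1 → isD (a * a) := by decide +kernel

/-- A subgroup of the symmetric group of degree five without double transpositions has order less
than `15`. -/
theorem card_lt (D : Subgroup P5) (hD : ∀ ρ : P5, ρ * dbl * ρ⁻¹ ∉ D) : Nat.card D < 15 := by
  have hno : ∀ x ∈ D, ¬ isD x := by
    intro x hx hdx
    obtain ⟨ρ, rfl⟩ := isD_conj x hdx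
    exact hD ρ hx
  have h4 : ¬ 4 ∣ Nat.card D := by
    intro h
    have : Fact (Nat.Prime 2) := ⟨Nat.prime_two⟩
    obtain ⟨K, hK⟩ := Sylow.exists_subgroup_card_pow_prime (G := D) 2 (n := 2) (by simpa using h)
    norm_num at hK
    have hpow : ∀ x : K, x ^ 4 = 1 := fun x => by rw [← hK]; exact pow_card_eq_one'
    have hval : ∀ x : K, ((x : D) : P5) ∈ D := fun x => x.1.2
    by_cases hsq : ∀ x : K, x * x = 1
    · -- all elements are involutions
      have hnt : ∃ a : K, a ≠ 1 := by
        by_contra hcon
        push Not at hcon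
        have : Nat.card K = 1 := by
          rw [Nat.card_eq_one_iff_unique]
          exact ⟨⟨fun x y => by rw [hcon x, hcon y]⟩, ⟨1⟩⟩
        omega
      obtain ⟨a, ha⟩ := hnt
      have hnt' : ∃ b : K, b ≠ 1 ∧ b ≠ a := by
        by_contra hcon
        push Not at hcon
        have hle : Nat.card K ≤ 2 := by
          have hsurj : Function.Surjective (fun i : Bool => if i then a else (1 : K)) := by
            intro b
            by_cases hb : b = 1
            · exact ⟨false, by simp [hb]⟩
            · exact ⟨true, by simp [hcon b hb]⟩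
          have := Nat.card_le_card_of_surjective _ hsurj
          simpa using this
        omega
      obtain ⟨b, hb, hba⟩ := hnt'
      have hcomm : a * b = b * a := by
        have h1 := hsq (a * b)
        have h2 : a * b = (a * b)⁻¹ := eq_inv_of_mul_eq_one_left h1
        rw [h2, mul_inv_rev, ← eq_inv_of_mul_eq_one_left (hsq a), ← eq_inv_of_mul_eq_one_left (hsq b)]
      have inj : ∀ x y : K, ((x : D) : P5) = y → x = y := fun x y h => Subtype.ext (Subtype.ext h)
      rcases klein ((a : D) : P5) (by simpa using congrArg (fun z : K => ((z : D) : P5)) (hsq a))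
        (fun h => ha (inj a 1 h)) ((b : D) : P5)
        (by simpa using congrArg (fun z : K => ((z : D) : P5)) (hsq b))
        (fun h => hb (inj b 1 h)) (fun h => hba (inj a b h).symm)
        (by simpa using congrArg (fun z : K => ((z : D) : P5)) hcomm) with h1 | h1 | h1
      · exact hno _ (hval a) h1
      · exact hno _ (hval b) h1
      · exact hno _ (D.mul_mem (hval a) (hval b)) h1
    · push Not at hsq
      obtain ⟨x, hx⟩ := hsq
      refine hno _ (D.mul_mem (hval x) (hval x)) (four_cycle _ ?_ ?_)
      · simpa using congrArg (fun z : K => ((z : D) : P5)) (hpow x)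
      · intro h
        apply hx
        exact Subtype.ext (Subtype.ext h)
  have hdvd : Nat.card D ∣ 120 := by
    have := Subgroup.card_subgroup_dvd_card D
    rwa [Nat.card_eq_fintype_card (α := P5), Fintype.card_perm, Fintype.card_fin] at this
  by_contra hge
  push Not at hge
  have h15 : 15 ∣ Nat.card D := by
    have hle : Nat.card D ≤ 120 := Nat.le_of_dvd (by norm_num) hdvd
    generalize Nat.card D = n at *
    interval_cases n <;> first | omega | (revert hdvd h4; decide)
  have f5 : Fact (Nat.Prime 5) := ⟨by norm_num⟩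
  have f3 : Fact (Nat.Prime 3) := ⟨by norm_num⟩
  obtain ⟨r, hr⟩ := exists_prime_orderOf_dvd_card' (G := D) 5 (dvd_trans (by norm_num) h15)
  obtain ⟨s, hs⟩ := exists_prime_orderOf_dvd_card' (G := D) 3 (dvd_trans (by norm_num) h15)
  have hr5 : (r : P5) ^ 5 = 1 := by
    have := pow_orderOf_eq_one r
    rw [hr] at this
    simpa using congrArg Subtype.val this
  have hs3 : (s : P5) ^ 3 = 1 := by
    have := pow_orderOf_eq_one s
    rw [hs] at this
    simpa using congrArg Subtype.val this
  have hr1 : (r : P5) ≠ 1 := by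
    intro h
    have : r = 1 := Subtype.ext h
    rw [this, orderOf_one] at hr; omega
  have hs1 : (s : P5) ≠ 1 := by
    intro h
    have : s = 1 := Subtype.ext h
    rw [this, orderOf_one] at hs; omega
  have mr := r.2
  have ms := s.2
  rcases five_three r hr5 hr1 s hs3 hs1 with h1 | h1 | h1
  · exact hno _ (D.mul_mem (D.mul_mem mr mr) ms) h1
  · exact hno _ (D.mul_mem (D.mul_mem (D.mul_mem mr mr) mr) ms) h1
  · exact hno _ (D.mul_mem (D.mul_mem (D.mul_mem (D.mul_mem (D.mul_mem mr mr) ms) mr) ms) ms) h1

end Cfsg.Agent.SporRec.Co3
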