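import Cfsg.Agent.SporRec.Co3.ConjF
import Cfsg.Agent.SporRec.Co3.PermFive
import Cfsg.Agent.SporRec.ZCount

/-!
# The centralizer of the four-group `W = ⟨y, u⟩`
-/

set_option autoImplicit false

namespace Cfsg.Agent.SporRec.Co3

open Matrix

variable {G : Type*} [Group G]

theorem bq_comm (M N : M3) : bq M N = bq N M := by
  rw [bq, bq, add_comm N M, add_right_comm]

/-- The centralizer of `t`. -/
abbrev Cn (t : G) : Subgroup G := Subgroup.centralizer ({t} : Set G)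

theorem t_mem_Cn (t : G) : t ∈ Cn t := Subgroup.mem_centralizer_singleton_iff.mpr rfl

/-- Conjugates of `t` in its centralizer. -/
def Zt (t : G) (x : Cn t) : Prop := ∃ g : G, g * t * g⁻¹ = x

/-- The data used in the closing argument. -/
structure CData (t : G) (H : Subgroup G) (π : Cn t →* Sp) (y u d v : Cn t) (f : P5 →* G) : Prop where
  kd : KData π (⟨t, t_mem_Cn t⟩ : Cn t) (Zt t)
  fr : Frame π y u d
  hv : (π v : M6) = U Mv
  hZ : ∀ g : G, g * t * g⁻¹ ∈ H → g ∈ H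
  tH : t ∈ H
  inj : Function.Injective f
  fH : ∀ σ, f σ ∈ H
  fy : ∀ σ, f σ * (y : G) = (y : G) * f σ
  fu : ∀ σ, f σ * (u : G) = (u : G) * f σ
  ft : f dbl = t
  fd : f s01 = d
  fv : f dbl' = v

namespace CData

variable {t : G} {H : Subgroup G} {π : Cn t →* Sp} {y u d v : Cn t} {f : P5 →* G}
  (h : CData t H π y u d v f)

include h

theorem Cn_le : Cn t ≤ H := by
  intro g hg
  apply h.hZ
  rw [Subgroup.mem_centralizer_singleton_iff] at hg
  rw [hg, mul_inv_cancel_right]; exact h.tH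

theorem tt : t * t = 1 := congrArg Subtype.val h.kd.tt

theorem t1 : t ≠ 1 := fun h' => h.kd.t1 (Subtype.ext h')

/-- Elements of `Cn t` over a nonzero element of the field are not conjugate to `t`. -/
theorem not_conj {x : Cn t} {M : M3} (hM : M ∈ fld) (hx : (π x : M6) = U M) (g : G) :
    g * t * g⁻¹ ≠ x := fun h' => h.kd.not_Z_fld hM hx ⟨g, h'⟩

/-- Elements of the centralizer of `t` commuting with `y` and `u`. -/
theorem form_W (k : Cn t) (hy : k * y = y * k) (hu : k * u = u * k) :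
    ∃ i j l m n : ℕ, k = y ^ i * u ^ j * d ^ l * v ^ m * (⟨t, t_mem_Cn t⟩ : Cn t) ^ n := by
  set T : Cn t := ⟨t, t_mem_Cn t⟩ with hT
  have hF := h.fr
  have s1 : (1 : M3).IsSymm := transpose_one
  have c1 : (π k : M6) * U 1 = U 1 * (π k : M6) := by
    have := congrArg (fun z => (π z : M6)) hy
    simp only [map_mul] at this
    rw [← hF.hy]; exact this
  obtain ⟨A, B, hAB, hA, hB⟩ := centralizer_form (π k) c1
  have hAp := mem_perms hA
  have c2 : (π k : M6) * U M0 = U M0 * (π k : M6) := by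
    have := congrArg (fun z => (π z : M6)) hu
    simp only [map_mul] at this
    rw [← hF.hu]; exact this
  rw [hAB, U, fromBlocks_multiply, fromBlocks_multiply, fromBlocks_inj] at c2
  simp only [mul_one, mul_zero, add_zero, one_mul, zero_mul, zero_add] at c2
  have h3 : A * M0 = M0 * A := by
    have := c2.2.1
    rw [add_comm] at this
    exact add_left_cancel this
  have hA1 : A = 1 := by
    apply perms_M0 A hAp
    rw [h3, Matrix.mul_assoc, hA, Matrix.mul_one]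
  subst hA1
  rw [transpose_one, Matrix.mul_one] at hB
  have hkB : (π k : M6) = U B := by rw [hAB]; rfl
  have hbad : ∀ x : Cn t, k * x = x * k → k * x = T * (x * k) → False := by
    intro x h4 h5
    rw [h4] at h5
    have : T = 1 := mul_eq_right.mp h5.symm
    exact h.kd.t1 this
  have b1 : bq 1 B = 0 := by
    have := h.kd.comm_eq hB s1 hkB hF.hy
    rw [bq_comm] at this
    by_contra hne
    rw [if_neg hne] at this
    exact hbad y hy this
  have b2 : bq M0 B = 0 := by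
    have := h.kd.comm_eq hB M0_symm hkB hF.hu
    rw [bq_comm] at this
    by_contra hne
    rw [if_neg hne] at this
    exact hbad u hu this
  have e := eq_sm hB
  rw [e] at b1 b2
  obtain ⟨i, j, l, m, hijl⟩ := enum_perp _ _ _ _ _ _ b1 b2
  rw [← e] at hijl
  have hpow : ∀ (x : Cn t) (M : M3) (i : ZMod 2), (π x : M6) = U M →
      ∃ n : ℕ, (π (x ^ n) : M6) = U (i • M) := by
    intro x M i hx
    rcases (show ∀ a : ZMod 2, a = 0 ∨ a = 1 by decide) i with rfl | rfl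
    · refine ⟨0, ?_⟩
      rw [pow_zero, map_one, zero_smul, U_zero]; rfl
    · refine ⟨1, ?_⟩
      rw [pow_one, one_smul, hx]
  obtain ⟨n1, hn1⟩ := hpow y 1 i hF.hy
  obtain ⟨n2, hn2⟩ := hpow u M0 j hF.hu
  obtain ⟨n3, hn3⟩ := hpow d M1 l hF.hd
  obtain ⟨n4, hn4⟩ := hpow v Mv m h.hv
  have hprod : (π (y ^ n1 * u ^ n2 * d ^ n3 * v ^ n4) : M6) = U B := by
    rw [KData.U_mul_eq h.kd (KData.U_mul_eq h.kd (KData.U_mul_eq h.kd hn1 hn2) hn3) hn4, ← hijl]
  rcases h.kd.eq_or (hkB.trans hprod.symm) with h6 | h6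
  · exact ⟨n1, n2, n3, n4, 0, by rw [pow_zero, mul_one]; exact h6⟩
  · exact ⟨n1, n2, n3, n4, 1, by rw [pow_one, h6]; exact h.kd.tc _⟩

theorem yy : (y : G) * y = 1 ∧ (u : G) * u = 1 ∧ (y : G) * u = (u : G) * y := by
  obtain ⟨h1, -, -, h2, h3, -⟩ := h.kd.frame_comm h.fr
  exact ⟨congrArg Subtype.val h2, congrArg Subtype.val h3, congrArg Subtype.val h1⟩

/-- The four-group `W`. -/
def W (_ : CData t H π y u d v f) : Subgroup G := Subgroup.closure ({(y : G), (u : G)} : Set G)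

theorem y_mem_W : (y : G) ∈ h.W := Subgroup.subset_closure (by simp)

theorem u_mem_W : (u : G) ∈ h.W := Subgroup.subset_closure (by simp)

theorem W_cases {w : G} (hw : w ∈ h.W) : w = 1 ∨ ∃ x : Cn t, ∃ M ∈ fld, w = x ∧ (π x : M6) = U M ∧
    (x = y ∨ x = u ∨ x = u * y) := by
  obtain ⟨h1, h2, h3⟩ := h.yy
  have hle : h.W ≤ frameGroup (y : G) (u : G) 1 h3 (by simp) (by simp) h1 h2 (by simp) := by
    rw [W, Subgroup.closure_le]
    rintro z (rfl | rfl)
    · exact ⟨1, 0, 0, by simp⟩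
    · exact ⟨0, 1, 0, by simp⟩
  obtain ⟨i, j, k, hw'⟩ := hle hw
  have pc : ∀ (a : G), a * a = 1 → ∀ n : ℕ, a ^ n = 1 ∨ a ^ n = a := by
    intro a ha n
    rcases Nat.even_or_odd' n with ⟨k, hk | hk⟩
    · left; rw [hk, pow_mul, pow_two, ha, one_pow]
    · right; rw [hk, pow_add, pow_mul, pow_two, ha, one_pow, one_mul, pow_one]
  rw [one_pow, mul_one] at hw'
  rcases pc _ h1 i with e1 | e1 <;> rcases pc _ h2 j with e2 | e2 <;> rw [e1, e2] at hw'
  · left; simpa using hw'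
  · right; exact ⟨u, M0, by decide, by simpa using hw', h.fr.hu, by simp⟩
  · right; exact ⟨y, 1, by decide, by simpa using hw', h.fr.hy, by simp⟩
  · right
    refine ⟨u * y, M0 + 1, by decide, ?_, KData.U_mul_eq h.kd h.fr.hu h.fr.hy, by simp⟩
    rw [hw', h3]; rfl

theorem W_comm_f {w : G} (hw : w ∈ h.W) (σ : P5) : f σ * w = w * f σ := by
  have : h.W ≤ Subgroup.centralizer ({f σ} : Set G) := by
    rw [W, Subgroup.closure_le]
    rintro z (rfl | rfl)
    · exact Subgroup.mem_centralizer_singleton_iff.mpr (h.fy σ).symm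
    · exact Subgroup.mem_centralizer_singleton_iff.mpr (h.fu σ).symm
  exact (Subgroup.mem_centralizer_singleton_iff.mp (this hw)).symm

theorem W_le : h.W ≤ Cn t := by
  rw [W, Subgroup.closure_le]
  rintro z (rfl | rfl)
  · exact y.2
  · exact u.2

/-- Products of `t` with non-trivial elements of `W` are not conjugate to `t`. -/
theorem tw_not {w : G} (hw : w ∈ h.W) (g : G) (hg : g * t * g⁻¹ = w * t) : w = 1 := by
  rcases h.W_cases hw with h1 | ⟨x, M, hM, rfl, hx, -⟩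
  · exact h1
  · exfalso
    have h2 : (π (x * ⟨t, t_mem_Cn t⟩) : M6) = U M := by
      rw [map_mul, h.kd.pt, mul_one]; exact hx
    exact h.not_conj hM h2 g hg

theorem w_not {w : G} (hw : w ∈ h.W) (g : G) (hg : g * t * g⁻¹ = w) : False := by
  rcases h.W_cases hw with h1 | ⟨x, M, hM, rfl, hx, -⟩
  · rw [h1] at hg
    apply h.t1
    have := congrArg (fun z => g⁻¹ * z * g) hg
    simpa [mul_assoc] using this
  · exact h.not_conj hM hx g hg

theorem wd_not {w : G} (hw : w ∈ h.W) (g : G) (hg : g * t * g⁻¹ = w * d) : False := by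
  rcases h.W_cases hw with h1 | ⟨x, M, hM, rfl, hx, hx'⟩
  · rw [h1, one_mul] at hg
    exact h.not_conj (by decide : M1 ∈ fld) h.fr.hd g hg
  · have h2 : (π (x * d) : M6) = U (M + M1) := KData.U_mul_eq h.kd hx h.fr.hd
    refine h.not_conj ?_ h2 g hg
    rcases hx' with rfl | rfl | rfl
    · have : M = 1 := U_injective (hx.symm.trans h.fr.hy)
      rw [this]; decide
    · have : M = M0 := U_injective (hx.symm.trans h.fr.hu)
      rw [this]; decide
    · have : M = M0 + 1 := U_injective (hx.symm.trans (KData.U_mul_eq h.kd h.fr.hu h.fr.hy))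
      rw [this]; decide

/-- The subgroup `W × S₅`. -/
def H1 : Subgroup G where
  carrier := {x | ∃ (w : G) (σ : P5), w ∈ h.W ∧ x = w * f σ}
  one_mem' := ⟨1, 1, one_mem _, by simp⟩
  mul_mem' := by
    rintro _ _ ⟨w, σ, hw, rfl⟩ ⟨w', σ', hw', rfl⟩
    refine ⟨w * w', σ * σ', mul_mem hw hw', ?_⟩
    rw [map_mul]
    calc w * f σ * (w' * f σ') = w * (f σ * w') * f σ' := by group
      _ = w * w' * (f σ * f σ') := by rw [h.W_comm_f hw' σ]; group
  inv_mem' := by
    rintro _ ⟨w, σ, hw, rfl⟩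
    refine ⟨w⁻¹, σ⁻¹, inv_mem hw, ?_⟩
    rw [_root_.mul_inv_rev, ← map_inv, h.W_comm_f (inv_mem hw)]

theorem mem_H1 {x : G} : x ∈ h.H1 ↔ ∃ (w : G) (σ : P5), w ∈ h.W ∧ x = w * f σ := Iff.rfl

theorem W_le_H1 : h.W ≤ h.H1 := fun w hw => ⟨w, 1, hw, by simp⟩

theorem f_mem_H1 (σ : P5) : f σ ∈ h.H1 := ⟨1, σ, one_mem _, by simp⟩

theorem H1_le : h.H1 ≤ H := by
  rintro _ ⟨w, σ, hw, rfl⟩
  exact mul_mem (h.Cn_le (h.W_le hw)) (h.fH σ)

theorem t_mem_H1 : t ∈ h.H1 := h.ft ▸ h.f_mem_H1 dbl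

/-- Elements of `C(t)` commuting with `W` lie in `H1`. -/
theorem mem_H1_of (k : Cn t) (hy : k * y = y * k) (hu : k * u = u * k) : (k : G) ∈ h.H1 := by
  obtain ⟨i, j, l, m, n, rfl⟩ := h.form_W k hy hu
  have hd : (d : G) ∈ h.H1 := h.fd ▸ h.f_mem_H1 s01
  have hv : (v : G) ∈ h.H1 := h.fv ▸ h.f_mem_H1 dbl'
  have h1 := pow_mem (h.W_le_H1 h.y_mem_W) i
  have h2 := pow_mem (h.W_le_H1 h.u_mem_W) j
  exact mul_mem (mul_mem (mul_mem (mul_mem h1 h2) (pow_mem hd l)) (pow_mem hv m))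
    (pow_mem h.t_mem_H1 n)

/-- The centralizer of `W`. -/
def Y : Subgroup G := Subgroup.centralizer (h.W : Set G)

theorem mem_Y {g : G} : g ∈ h.Y ↔ ∀ w ∈ h.W, w * g = g * w := Subgroup.mem_centralizer_iff

theorem W_comm {w w' : G} (hw : w ∈ h.W) (hw' : w' ∈ h.W) : w * w' = w' * w := by
  have key : h.W ≤ h.Y := by
    rw [W, Subgroup.closure_le]
    have hc := h.yy.2.2
    have aux : ∀ z : G, z * y = y * z → z * u = u * z → z ∈ h.Y := by
      intro z h1 h2
      rw [mem_Y]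
      intro w hw
      have : h.W ≤ Subgroup.centralizer ({z} : Set G) := by
        rw [W, Subgroup.closure_le]
        rintro x (rfl | rfl)
        · exact Subgroup.mem_centralizer_singleton_iff.mpr h1.symm
        · exact Subgroup.mem_centralizer_singleton_iff.mpr h2.symm
      exact Subgroup.mem_centralizer_singleton_iff.mp (this hw)
    rintro z (rfl | rfl)
    · exact aux _ rfl hc
    · exact aux _ hc.symm rfl
  exact (h.mem_Y.mp (key hw')) w hw

theorem H1_le_Y : h.H1 ≤ h.Y := by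
  rintro _ ⟨w, σ, hw, rfl⟩
  rw [mem_Y]
  intro w' hw'
  calc w' * (w * f σ) = (w' * w) * f σ := by group
    _ = w * (w' * f σ) := by rw [h.W_comm hw' hw]; group
    _ = w * f σ * w' := by rw [← h.W_comm_f hw']; group

theorem f_sq {σ : P5} {w : G} (hw : w ∈ h.W) (h2 : (w * f σ) * (w * f σ) = 1) : σ * σ = 1 := by
  have hww : w * w = 1 := by
    rcases h.W_cases hw with h1 | ⟨x, M, hM, rfl, hx, -⟩
    · rw [h1, one_mul]
    · exact congrArg Subtype.val (h.kd.sq_one (fld_symm M hM) hx (fld_q M hM))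
  have h3 : f (σ * σ) = 1 := by
    rw [map_mul, ← h2]
    calc f σ * f σ = (w * w) * (f σ * f σ) := by rw [hww, one_mul]
      _ = w * (w * f σ) * f σ := by group
      _ = w * (f σ * w) * f σ := by rw [h.W_comm_f hw]
      _ = _ := by group
  exact h.inj (h3.trans (map_one f).symm)

/-- Conjugates of `t` in `H1` are conjugate to `t` in `H1`. -/
theorem conj_H1 {g : G} (hg : g * t * g⁻¹ ∈ h.H1) :
    ∃ ρ : P5, g * t * g⁻¹ = f ρ * t * (f ρ)⁻¹ := by
  obtain ⟨w, σ, hw, hx⟩ := h.mem_H1.mp hg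
  have hgg : (g * t * g⁻¹) * (g * t * g⁻¹) = 1 := by
    calc (g * t * g⁻¹) * (g * t * g⁻¹) = g * (t * t) * g⁻¹ := by group
      _ = 1 := by rw [h.tt]; group
  rw [hx] at hgg
  have hconj : ∀ (ρ τ : P5), (f ρ)⁻¹ * (w * f (ρ * τ * ρ⁻¹)) * f ρ = w * f τ := by
    intro ρ τ
    have e := h.W_comm_f hw ρ
    have e' : (f ρ)⁻¹ * w = w * (f ρ)⁻¹ := by
      calc (f ρ)⁻¹ * w = (f ρ)⁻¹ * (w * f ρ) * (f ρ)⁻¹ := by group
        _ = w * (f ρ)⁻¹ := by rw [← e]; group
    rw [map_mul, map_mul, map_inv]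
    calc (f ρ)⁻¹ * (w * (f ρ * f τ * (f ρ)⁻¹)) * f ρ = ((f ρ)⁻¹ * w) * f ρ * f τ := by group
      _ = w * f τ := by rw [e']; group
  rcases invol_cases σ (h.f_sq hw hgg) with rfl | ⟨ρ, rfl⟩ | ⟨ρ, rfl⟩
  · rw [map_one, mul_one] at hx
    exact (h.w_not hw g hx).elim
  · exfalso
    have h1 := hconj ρ s01
    rw [← hx, h.fd] at h1
    refine h.wd_not hw ((f ρ)⁻¹ * g) ?_
    rw [← h1]; group
  · have h1 := hconj ρ dbl
    rw [← hx, h.ft] at h1
    have h2 := h.tw_not hw ((f ρ)⁻¹ * g) (by rw [← h1]; group)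
    refine ⟨ρ, ?_⟩
    rw [h2, one_mul] at h1
    have h3 := congrArg (fun z => f ρ * z * (f ρ)⁻¹) h1
    simpa only [mul_assoc, mul_inv_cancel_left, mul_inv_cancel, mul_one] using h3

/-- the hypothesis of the counting lemma -/
theorem hZ_Y {g : G} (hgY : g ∈ h.Y) (hg : g * t * g⁻¹ ∈ h.H1) : g ∈ h.H1 := by
  obtain ⟨ρ, hρ⟩ := h.conj_H1 hg
  have hk : (f ρ)⁻¹ * g ∈ Cn t := by
    rw [Subgroup.mem_centralizer_singleton_iff]
    have h1 : (f ρ)⁻¹ * (g * t * g⁻¹) * g = (f ρ)⁻¹ * (f ρ * t * (f ρ)⁻¹) * g := by rw [hρ]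
    calc (f ρ)⁻¹ * g * t = (f ρ)⁻¹ * (g * t * g⁻¹) * g := by group
      _ = (f ρ)⁻¹ * (f ρ * t * (f ρ)⁻¹) * g := h1
      _ = t * ((f ρ)⁻¹ * g) := by group
  have hkY : (f ρ)⁻¹ * g ∈ h.Y := mul_mem (inv_mem (h.H1_le_Y (h.f_mem_H1 ρ))) hgY
  have h2 := h.mem_H1_of ⟨_, hk⟩ (Subtype.ext ((h.mem_Y.mp hkY) _ h.y_mem_W).symm)
    (Subtype.ext ((h.mem_Y.mp hkY) _ h.u_mem_W).symm)
  have h3 := mul_mem (h.f_mem_H1 ρ) h2
  simpa using h3

end CData

end Cfsg.Agent.SporRec.Co3
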