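import Cfsg.Agent.SporRec.Co3.ChainData
import Cfsg.Agent.S0403
import Cfsg.Prelude.Def_Spor_Conway

/-!
# Generators of the third Conway group
-/

set_option autoImplicit false

namespace Cfsg.Agent.SporRec.Co3.Chain

open Cfsg Cfsg.Agent.Lib.PackMat Cfsg.Agent.LeechMat.Core Cfsg.Agent.LeechMat.Code
  Cfsg.Agent.LeechMat.Elements Cfsg.Agent.LeechMat.Orbit
  Cfsg.Agent.SporRec.LeechMod3 Cfsg.Agent.SporRec.LeechChain
  Cfsg.Agent.SporRec.Co3.MatData Cfsg.Agent.SporRec.Co3.ChainData

/-- The stabiliser of `(-5, -1²³)` in the automorphism group of the lattice. -/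
abbrev G3 : Subgroup Co0 := MulAction.stabilizer Co0 Spor.leechV

theorem vec_cV : vec cV = Spor.vecV := by
  have : ∀ p, vec cV p = Spor.vecV p := by decide +kernel
  exact funext this

theorem norm_V : sqNorm (Spor.leechV : GolayPt → ℤ) = 48 := by
  show sqNorm Spor.vecV = 48
  decide +kernel

theorem exists_el (i : ℕ) (hi : i < 8) : ∃ g ∈ G3, okG cfg (gs0.getD i 0) = true ∧
    rho g = mt (gs0.getD i 0) := by
  have key : ∀ (A ys : List ℕ) (G : ℕ), checkRep 8 A ys = true → fixes 8 A [cV] = true →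
      matchCode A G = true → okG cfg G = true → ∃ g ∈ G3, okG cfg G = true ∧ rho g = mt G := by
    intro A ys G h1 h2 h3 h4
    obtain ⟨g, hg⟩ := exists_rep h1
    refine ⟨g, ?_, h4, rho_of_match hg h3⟩
    rw [MulAction.mem_stabilizer_iff]
    refine fixes_sound hg h2 (List.mem_singleton.2 rfl) ?_ ?_
    · show Spor.vecV = vec cV
      exact vec_cV.symm
    · rw [norm_V]; norm_num
  interval_cases i
  · exact key _ _ _ rep0 fix0 match0 ok0
  · exact key _ _ _ rep1 fix1 match1 ok1
  · exact key _ _ _ rep2 fix2 match2 ok2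
  · exact key _ _ _ rep3 fix3 match3 ok3
  · exact key _ _ _ rep4 fix4 match4 ok4
  · exact key _ _ _ rep5 fix5 match5 ok5
  · exact key _ _ _ rep6 fix6 match6 ok6
  · exact key _ _ _ rep7 fix7 match7 ok7

theorem okR_of {V : ℕ} (h : (Nat.blt V (2 ^ (15 * 24)) && allBelow (fun i => Nat.blt (dg 15 V i) 3) 24) = true) :
    OkR cfg V := by
  rw [Bool.and_eq_true, Nat.blt_eq] at h
  refine ⟨h.1, fun i hi => ?_⟩
  have := allBelow_spec h.2 i hi
  rwa [Nat.blt_eq] at this

theorem mem_two {gs : List ℕ} (hl : gs.length = 2) (P : ℕ → Prop) (h0 : P (gs.getD 0 0))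
    (h1 : P (gs.getD 1 0)) : ∀ c ∈ gs, P c := by
  intro c hc
  obtain ⟨i, hi, rfl⟩ := List.getElem_of_mem hc
  rw [hl] at hi
  interval_cases i
  · rwa [List.getD_eq_getElem _ _ (by omega)] at h0
  · rwa [List.getD_eq_getElem _ _ (by omega)] at h1

theorem mem_three {gs : List ℕ} (hl : gs.length = 3) (P : ℕ → Prop) (h0 : P (gs.getD 0 0))
    (h1 : P (gs.getD 1 0)) (h2 : P (gs.getD 2 0)) : ∀ c ∈ gs, P c := by
  intro c hc
  obtain ⟨i, hi, rfl⟩ := List.getElem_of_mem hc
  rw [hl] at hi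
  interval_cases i
  · rwa [List.getD_eq_getElem _ _ (by omega)] at h0
  · rwa [List.getD_eq_getElem _ _ (by omega)] at h1
  · rwa [List.getD_eq_getElem _ _ (by omega)] at h2

theorem l1 : gs1.length = 2 := rfl
theorem l2 : gs2.length = 2 := rfl
theorem l3 : gs3.length = 2 := rfl
theorem l4 : gs4.length = 3 := rfl
theorem l5 : gs5.length = 2 := rfl

/-- one step, packaged -/
theorem step' {K : Subgroup Co0} {gs gs' : List ℕ} {V n m : ℕ} {T : List (List ℕ)} [Finite Co0]
    (hgs : ∀ c ∈ gs, HasCode K c) (hgs' : ∀ c ∈ gs', HasCode K c)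
    (hV : (Nat.blt V (2 ^ (15 * 24)) && allBelow (fun i => Nat.blt (dg 15 V i) 3) 24) = true)
    (hfix : ∀ c ∈ gs', Nat.beq (run cfg [c] V) V = true)
    (hinc : incr gs V T = true) (hlen : T.length = n)
    (hrec : m ≤ Nat.card (KO gs')) : n * m ≤ Nat.card K := by
  have h := step (KO_le hgs') hgs (okR_of hV)
    (fun g hg => KO_fix (okR_of hV) (fun c hc => (hgs' c hc).1)
      (fun c hc => Nat.eq_of_beq_eq_true (hfix c hc)) g hg) hinc inferInstance
  rw [hlen] at h
  exact (Nat.mul_le_mul_left n hrec).trans h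

/-- **Lower bound for the order of the group generated by the eight elements.** -/
theorem card_ge [Finite Co0] {K : Subgroup Co0} (h0 : ∀ c ∈ gs0, HasCode K c) :
    495766656000 ≤ Nat.card K := by
  have w1 := mem_two l1 (HasCode K) (HasCode.word h0 word0_0) (HasCode.word h0 word0_1)
  have h1 := KO_hasCode w1
  have w2 := mem_two l2 (HasCode (KO gs1)) (HasCode.word h1 word1_0) (HasCode.word h1 word1_1)
  have h2 := KO_hasCode w2
  have w3 := mem_two l3 (HasCode (KO gs2)) (HasCode.word h2 word2_0) (HasCode.word h2 word2_1)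
  have h3 := KO_hasCode w3
  have w4 := mem_three l4 (HasCode (KO gs3)) (HasCode.word h3 word3_0) (HasCode.word h3 word3_1)
    (HasCode.word h3 word3_2)
  have h4 := KO_hasCode w4
  have w5 := mem_two l5 (HasCode (KO gs4)) (HasCode.word h4 word4_0) (HasCode.word h4 word4_1)
  have h5 := KO_hasCode w5
  have s5 : 3 * 1 ≤ Nat.card (KO gs5) := by
    refine step' (gs' := []) (m := 1) h5 (fun c hc => absurd hc List.not_mem_nil) row5
      (fun c hc => absurd hc List.not_mem_nil) inc5 len5 ?_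
    exact Nat.card_pos
  have s4 := step' h4 w5 row4
    (mem_two l5 (fun c => Nat.beq (run cfg [c] V4) V4 = true) fixr4_0 fixr4_1) inc4 len4 s5
  have s3 := step' h3 w4 row3
    (mem_three l4 (fun c => Nat.beq (run cfg [c] V3) V3 = true) fixr3_0 fixr3_1 fixr3_2) inc3 len3 s4
  have s2 := step' h2 w3 row2
    (mem_two l3 (fun c => Nat.beq (run cfg [c] V2) V2 = true) fixr2_0 fixr2_1) inc2 len2 s3
  have s1 := step' h1 w2 row1
    (mem_two l2 (fun c => Nat.beq (run cfg [c] V1) V1 = true) fixr1_0 fixr1_1) inc1 len1 s2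
  have s0 := step' h0 w1 row0
    (mem_two l1 (fun c => Nat.beq (run cfg [c] V0) V0 = true) fixr0_0 fixr0_1) inc0 len0 s1
  exact s0

theorem isCo3_G3 : IsSimpleGroup G3 ∧ Nat.card G3 = 495766656000 := by
  have := Cfsg.Agent.S0403.result Spor.leechV norm_V
  exact this

end Cfsg.Agent.SporRec.Co3.Chain
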