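import Cfsg.Agent.SporRec.Co3.Mat

/-!
# Enumerations over symmetric 3 × 3 matrices over the field with two elements
-/

set_option autoImplicit false

namespace Cfsg.Agent.SporRec.Co3

open Matrix

/-- determinant -/
def dt (M : M3) : ZMod 2 :=
  M 0 0 * M 1 1 * M 2 2 + M 0 0 * M 1 2 * M 2 1 + M 0 1 * M 1 0 * M 2 2 + M 0 1 * M 1 2 * M 2 0
    + M 0 2 * M 1 0 * M 2 1 + M 0 2 * M 1 1 * M 2 0

theorem det_eq (M : M3) : M.det = dt M := by
  rw [det_fin_three, dt]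
  have h : ∀ x : ZMod 2, -x = x := by decide
  simp only [sub_eq_add_neg, h]

/-- The permutation matrices. -/
def perms : List M3 :=
  [!![1, 0, 0; 0, 1, 0; 0, 0, 1], !![0, 1, 0; 1, 0, 0; 0, 0, 1], !![0, 0, 1; 0, 1, 0; 1, 0, 0],
   !![1, 0, 0; 0, 0, 1; 0, 1, 0], !![0, 1, 0; 0, 0, 1; 1, 0, 0], !![0, 0, 1; 1, 0, 0; 0, 1, 0]]

theorem perms_orth : ∀ P ∈ perms, P * Pᵀ = 1 := by decide +kernel

theorem enum_one : ∀ a b c d e f : ZMod 2, dt (sm a b c d e f) = 1 →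
    dt (sm a b c d e f + 1) = 1 →
    ∃ P ∈ perms, P * sm a b c d e f * Pᵀ = M0 ∨ P * sm a b c d e f * Pᵀ = M0 + 1 := by
  decide +kernel

theorem enum_two : ∀ a b c d e f : ZMod 2, dt (sm a b c d e f) = 1 →
    dt (sm a b c d e f + 1) = 1 → dt (sm a b c d e f + M0) = 1 →
    dt (sm a b c d e f + (M0 + 1)) = 1 →
    sm a b c d e f = M1 ∨ sm a b c d e f = M1 + 1 ∨ sm a b c d e f = M1 + M0 ∨
      sm a b c d e f = M1 + (M0 + 1) := by
  decide +kernel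

/-- 3 × 3 matrix with given rows -/
def mk9 (a b c d e f g h i : ZMod 2) : M3 := !![a, b, c; d, e, f; g, h, i]

theorem eq_mk9 (M : M3) : M = mk9 (M 0 0) (M 0 1) (M 0 2) (M 1 0) (M 1 1) (M 1 2) (M 2 0) (M 2 1)
    (M 2 2) := by
  ext i j
  fin_cases i <;> fin_cases j <;> simp [mk9]

theorem enum_orth : ∀ a b c d e f g h i : ZMod 2,
    mk9 a b c d e f g h i * (mk9 a b c d e f g h i)ᵀ = 1 → mk9 a b c d e f g h i ∈ perms := by
  decide +kernel

theorem mem_perms {A : M3} (h : A * Aᵀ = 1) : A ∈ perms := by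
  rw [eq_mk9 A] at h ⊢
  exact enum_orth _ _ _ _ _ _ _ _ _ h

theorem perms_cases : ∀ P ∈ perms, P * P = 1 ∨ P * P * P = 1 := by decide +kernel

theorem perms_M0 : ∀ P ∈ perms, P * M0 * Pᵀ = M0 → P = 1 := by decide +kernel

/-- The transpositions with their fixed index. -/
def transps : List (M3 × Fin 3) :=
  [(!![0, 1, 0; 1, 0, 0; 0, 0, 1], 2), (!![0, 0, 1; 0, 1, 0; 1, 0, 0], 1),
   (!![1, 0, 0; 0, 0, 1; 0, 1, 0], 0)]

theorem perms_transp : ∀ P ∈ perms, P * P = 1 → P = 1 ∨ ∃ k, (P, k) ∈ transps := by decide +kernel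

theorem transps_row : ∀ p ∈ transps, ∀ j, p.1 p.2 j = if j = p.2 then 1 else 0 := by
  decide +kernel

theorem transps_symm : ∀ p ∈ transps, p.1ᵀ = p.1 ∧ p.1 * p.1 = 1 := by decide +kernel

theorem transps_det : ∀ p ∈ transps, ∀ a b c d e f : ZMod 2,
    dt (p.1 * sm a b c d e f * p.1 + sm a b c d e f) = 0 := by decide +kernel

/-- vector with given entries -/
def v3 (x y z : ZMod 2) : Fin 3 → ZMod 2 := ![x, y, z]

theorem transps_fix : ∀ p ∈ transps, ∀ a b c d e f : ZMod 2,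
    p.1 * sm a b c d e f * p.1 = sm a b c d e f →
    (∃ x y z, ∀ i, (p.1 *ᵥ v3 x y z) i + ((sm a b c d e f * p.1) i p.2) = v3 x y z i) ∨
    (∃ x y z, ∀ i, (p.1 *ᵥ v3 x y z) i + (((sm a b c d e f + 1) * p.1) i p.2) = v3 x y z i) := by
  decide +kernel

theorem transps_col : ∀ p ∈ transps, ∀ i, p.1 i p.2 = if i = p.2 then 1 else 0 := by
  decide +kernel

theorem enum_perp : ∀ a b c d e f : ZMod 2, bq 1 (sm a b c d e f) = 0 →
    bq M0 (sm a b c d e f) = 0 →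
    ∃ i j k l : ZMod 2, sm a b c d e f = i • 1 + j • M0 + k • M1 + l • Mv := by
  decide +kernel

theorem enum_sign : ∀ α β : ZMod 2, ∃ a b c d e f : ZMod 2, bq 1 (sm a b c d e f) = α ∧
    bq M0 (sm a b c d e f) = β := by
  decide +kernel

theorem bq_Mv : bq 1 Mv = 0 ∧ bq M0 Mv = 0 ∧ bq M1 Mv = 1 := by decide +kernel

end Cfsg.Agent.SporRec.Co3
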