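import Cfsg.Agent.SporRec.TwoSp6.CInvol
import Cfsg.Agent.SporRec.TwoSp6.Order

/-!
# Involutions of type A on codes

`fF`: fast form on codes below 64; `lineF a b x`: the image of the vector with code `x` under the involution of the
line `⟨enc a, enc b⟩`; `stw w x`: the image under the word `w` in the seven transvections.
`orth_lines`: two involutions of type A whose product `g` satisfies `(x, g x) = 0` for all `x` have orthogonal lines.
-/

set_option autoImplicit false

namespace Cfsg.Agent.SporRec.Co3.LineCode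

open Cfsg.Agent.SporRec.TwoSp6.Cox Cfsg.Agent.SporRec.TwoSp6.Sp Cfsg.Agent.SporRec.TwoSp6.Lift
  Cfsg.Agent.SporRec.TwoSp6.Main Cfsg.Agent.SporRec.TwoSp6.Invol Cfsg.Agent.SporRec.TwoSp6.CInvol
  Cfsg.Agent.SporRec.TwoSp6.Model

/-- fast version of the form on codes below 64 -/
def fF (c d : ℕ) : Bool :=
  Nat.beq (Nat.land (Nat.shiftRight 0x96 (Nat.land (Nat.xor
    (Nat.land c (Nat.lor (Nat.shiftRight d 3) (Nat.mul (Nat.land d 7) 8)))
    (Nat.shiftRight (Nat.land c (Nat.lor (Nat.shiftRight d 3) (Nat.mul (Nat.land d 7) 8))) 3)) 7)) 1) 1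

theorem fF_eq : ∀ c < 64, ∀ d < 64, fN c d = fF c d := by decide +kernel

/-- The involution of the line `⟨a, b⟩` on codes. -/
def lineF (a b x : ℕ) : ℕ := Nat.xor (Nat.xor x (bif fF x b then a else 0)) (bif fF x a then b else 0)

theorem xor_lt {a b : ℕ} (ha : a < 64) (hb : b < 64) : Nat.xor a b < 64 := Nat.xor_lt_two_pow (n := 6) ha hb

theorem cond_lt {c : Bool} {a : ℕ} (ha : a < 64) : (bif c then a else 0) < 64 := by cases c <;> simp [ha]

theorem lineF_lt {a b x : ℕ} (ha : a < 64) (hb : b < 64) (hx : x < 64) : lineF a b x < 64 :=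
  xor_lt (xor_lt hx (cond_lt ha)) (cond_lt hb)

/-- all x < n -/
def allB (f : ℕ → Bool) : ℕ → Bool
  | 0 => true
  | n + 1 => f n && allB f n

theorem allB_spec {f : ℕ → Bool} {n : ℕ} (h : allB f n = true) : ∀ x < n, f x = true := by
  induction n with
  | zero => intro x hx; omega
  | succ n ih =>
    rw [allB, Bool.and_eq_true] at h
    intro x hx
    rcases Nat.lt_succ_iff_lt_or_eq.1 hx with h1 | rfl
    · exact ih h.2 x h1
    · exact h.1

/-- the involution of a line -/
abbrev line (u w : V) : S := tr u * tr w * tr (u + w)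

theorem enc_zero : enc 0 = 0 := by decide +kernel

theorem line_enc {a b x : ℕ} (ha : a < 64) (hb : b < 64) (hx : x < 64) (h : fF a b = false) :
    act (line (enc a) (enc b)) (enc x) = enc (lineF a b x) := by
  have hab : om (enc a) (enc b) = 0 := by rw [om_enc, fF_eq a ha b hb, h]; rfl
  rw [tr3_apply hab, om_enc, om_enc, fF_eq x hx b hb, fF_eq x hx a ha]
  unfold lineF
  rw [show ∀ p q : ℕ, enc (Nat.xor p q) = enc p + enc q from enc_xor,
    show ∀ p q : ℕ, enc (Nat.xor p q) = enc p + enc q from enc_xor, add_assoc]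
  congr 1
  congr 1
  · cases fF x b <;> simp [enc_zero]
  · cases fF x a <;> simp [enc_zero]

/-- check for a pair of codes -/
def chk (c d : ℕ) : Bool :=
  (!(fF 1 c) && !(fF 2 c) && !(fF 1 d) && !(fF 2 d)) || (fF c d) ||
    !(allB (fun x => !(fF (lineF 1 2 x) (lineF c d x))) 64) || (c == 0 || d == 0 || c == d)

theorem chk_all : allB (fun c => allB (fun d => chk c d) 64) 64 = true := by decide +kernel

theorem om_eq_zero_iff {c d : ℕ} (hc : c < 64) (hd : d < 64) : om (enc c) (enc d) = 0 ↔ fF c d = false := by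
  rw [om_enc, fF_eq c hc d hd]
  cases fF c d <;> simp

/-- Lines of commuting involutions with alternating product are orthogonal: special case. -/
theorem orth_lines_aux {u' w' : V} (hu' : u' ≠ 0) (hw' : w' ≠ 0) (hne' : w' ≠ u') (ho' : om u' w' = 0)
    (h : ∀ x, om (act (line (enc 1) (enc 2)) x) (act (line u' w') x) = 0) :
    om (enc 1) u' = 0 ∧ om (enc 2) u' = 0 ∧ om (enc 1) w' = 0 ∧ om (enc 2) w' = 0 := by
  obtain ⟨c, hc, rfl⟩ := exists_enc u'
  obtain ⟨d, hd, rfl⟩ := exists_enc w'
  rw [om_eq_zero_iff hc hd] at ho'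
  have k := allB_spec (allB_spec chk_all c hc) d hd
  unfold chk at k
  have hall : allB (fun x => !(fF (lineF 1 2 x) (lineF c d x))) 64 = true := by
    have key : ∀ n ≤ 64, allB (fun x => !(fF (lineF 1 2 x) (lineF c d x))) n = true := by
      intro n
      induction n with
      | zero => intro _; rfl
      | succ n ih =>
        intro hn
        have hn' : n < 64 := by omega
        rw [allB, Bool.and_eq_true]
        refine ⟨?_, ih (by omega)⟩
        have := h (enc n)
        rw [line_enc (by norm_num) (by norm_num) hn' (by decide +kernel), line_enc hc hd hn' ho',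
          om_eq_zero_iff (lineF_lt (by norm_num) (by norm_num) hn') (lineF_lt hc hd hn')] at this
        rw [this]; rfl
    exact key 64 le_rfl
  have hc0 : (c == 0) = false := by
    rw [beq_eq_false_iff_ne]
    rintro rfl
    exact hu' enc_zero
  have hd0 : (d == 0) = false := by
    rw [beq_eq_false_iff_ne]
    rintro rfl
    exact hw' enc_zero
  have hcd : (c == d) = false := by
    rw [beq_eq_false_iff_ne]
    rintro rfl
    exact hne' rfl
  rw [hall, ho', hc0, hd0, hcd] at k
  simp only [Bool.not_true, Bool.or_false, Bool.and_eq_true, Bool.not_eq_true'] at k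
  obtain ⟨⟨⟨k1, k2⟩, k3⟩, k4⟩ := k
  rw [om_eq_zero_iff (by norm_num) hc, om_eq_zero_iff (by norm_num) hc, om_eq_zero_iff (by norm_num) hd,
    om_eq_zero_iff (by norm_num) hd]
  exact ⟨k1, k2, k3, k4⟩

theorem line_conj (g : S) (u w : V) : g * line u w * g⁻¹ = line (act g u) (act g w) := by
  show g * (tr u * tr w * tr (u + w)) * g⁻¹ = tr (act g u) * tr (act g w) * tr (act g u + act g w)
  rw [← act_add, ← conj_tr, ← conj_tr, ← conj_tr]
  group

/-- **Orthogonality of lines.** -/
theorem orth_lines {u w u' w' : V} (hu : u ≠ 0) (hw : w ≠ 0) (hne : w ≠ u) (ho : om u w = 0)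
    (hu' : u' ≠ 0) (hw' : w' ≠ 0) (hne' : w' ≠ u') (ho' : om u' w' = 0)
    (h : ∀ x, om (act (line u w) x) (act (line u' w') x) = 0) :
    om u u' = 0 ∧ om w u' = 0 ∧ om u w' = 0 ∧ om w w' = 0 := by
  obtain ⟨g, g1, g2⟩ := exists_pair hu hw hne ho (u' := enc 1) (w' := enc 2) (by decide +kernel) (by decide +kernel)
    (by decide +kernel) ((om_enc 1 2).trans (by decide))
  have := orth_lines_aux (act_ne (g := g) hu') (act_ne (g := g) hw') (fun h => hne' (act_inj h))
    (by rw [act_om]; exact ho') ?_
  · rw [← g1, ← g2, act_om, act_om, act_om, act_om] at this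
    exact this
  · intro x
    have e : ∀ L : S, act (g * L * g⁻¹) x = act g (act L (act g⁻¹ x)) := fun L => by rw [act_mul, act_mul]
    rw [← g1, ← g2, ← line_conj, ← line_conj, e, e, act_om]
    exact h _

theorem line_alt {u w : V} (ho : om u w = 0) (x : V) : om x (act (line u w) x) = 0 := by
  rw [tr3_apply ho, om_add, om_self, om_add, om_smul, om_smul, zero_add, mul_comm]
  exact CharTwo.add_self_eq_zero _

theorem line_sq {u w : V} (ho : om u w = 0) : line u w * line u w = 1 := by
  apply act_ext
  intro x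
  have ho' : om w u = 0 := by rw [om_symm]; exact ho
  rw [act_mul, tr3_apply ho, tr3_apply ho, act_one]
  have e1 : om (x + (om x w • u + om x u • w)) w = om x w := by
    rw [om_add', om_add', om_smul', om_smul', ho, om_self, mul_zero, mul_zero, add_zero, add_zero]
  have e2 : om (x + (om x w • u + om x u • w)) u = om x u := by
    rw [om_add', om_add', om_smul', om_smul', ho', om_self, mul_zero, mul_zero, add_zero, add_zero]
  rw [e1, e2, add_assoc, add_self, add_zero]

/-! ### words -/

/-- the seven codes -/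
def vN (k : ℕ) : ℕ := [1, 48, 8, 3, 16, 6, 32].getD k 0

/-- a letter on codes -/
def stN (k c : ℕ) : ℕ := bif Nat.blt k 7 then (bif fF c (vN k) then Nat.xor c (vN k) else c) else c

/-- a word on codes -/
def stw : List ℕ → ℕ → ℕ
  | [], c => c
  | k :: w, c => stN k (stw w c)

theorem vN_lt (k : ℕ) : vN k < 64 := by
  unfold vN
  rcases Nat.lt_or_ge k 7 with h | h
  · interval_cases k <;> decide
  · rw [List.getD_eq_default]
    · norm_num
    · simpa using h

theorem stN_lt {k c : ℕ} (hc : c < 64) : stN k c < 64 := by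
  unfold stN
  cases Nat.blt k 7
  · exact hc
  · cases fF c (vN k)
    · exact hc
    · exact xor_lt hc (vN_lt k)

theorem stw_lt {w : List ℕ} {c : ℕ} (hc : c < 64) : stw w c < 64 := by
  induction w with
  | nil => exact hc
  | cons k w ih => exact stN_lt ih

section

variable {C : Type*} [Group C] {z : C} {π : C →* S} {a : Fin 7 → C}

theorem act_gen (i : Fin 7) {c : ℕ} (hc : c < 64) : act (tr (v i)) (enc c) = enc (stN i.val c) := by
  have hv : vc i = vN i.val := rfl
  rw [act_enc]
  unfold st stN
  have hb : Nat.blt i.val 7 = true := by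
    rw [Nat.blt_eq]; exact i.2
  rw [hb, hv, fF_eq c hc _ (vN_lt _)]
  cases fF c (vN i.val) <;> rfl

theorem act_lt (ha : ∀ i, π (a i) = tr (v i)) (hz : π z = 1) (k : ℕ) {c : ℕ} (hc : c < 64) :
    act (π (lt a z k)) (enc c) = enc (stN k c) := by
  rcases Nat.lt_or_ge k 7 with h | h
  · have e : lt a z k = a ⟨k, h⟩ := by
      interval_cases k <;> rfl
    rw [e, ha, act_gen ⟨k, h⟩ hc]
  · have e : lt a z k = z := by
      unfold lt
      rw [if_neg (by omega), if_neg (by omega), if_neg (by omega), if_neg (by omega), if_neg (by omega),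
        if_neg (by omega), if_neg (by omega)]
    rw [e, hz, act_one]
    unfold stN
    have hb : Nat.blt k 7 = false := by
      rw [← Bool.not_eq_true, Nat.blt_eq]; omega
    rw [hb]; rfl

theorem act_wv (ha : ∀ i, π (a i) = tr (v i)) (hz : π z = 1) (w : List ℕ) {c : ℕ} (hc : c < 64) :
    act (π (wv a z w)) (enc c) = enc (stw w c) := by
  induction w with
  | nil => rw [wv_nil, map_one, act_one]; rfl
  | cons k w ih => rw [wv_cons, map_mul, act_mul, ih, act_lt ha hz k (stw_lt hc)]; rfl

/-- word = involution of a line -/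
def lineB (w : List ℕ) (p q : ℕ) : Bool := allB (fun x => Nat.beq (stw w x) (lineF p q x)) 64

theorem pi_eq (ha : ∀ i, π (a i) = tr (v i)) (hz : π z = 1) {w : List ℕ} {p q : ℕ} (hp : p < 64) (hq : q < 64)
    (ho : fF p q = false) (h : lineB w p q = true) : π (wv a z w) = line (enc p) (enc q) := by
  apply act_ext
  intro x
  obtain ⟨c, hc, rfl⟩ := exists_enc x
  rw [act_wv ha hz w hc, line_enc hp hq hc ho]
  exact congrArg enc (Nat.eq_of_beq_eq_true (allB_spec h c hc))

end

end Cfsg.Agent.SporRec.Co3.LineCode
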