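import Mathlib

/-!
# Symmetric 3 × 3 matrices over the field with two elements and the stabiliser of a plane in Sp(6, 2)

Finite computations for the closing argument of the characterisation of the third Conway group.
-/

set_option autoImplicit false

namespace Cfsg.Agent.SporRec.Co3

open Matrix

/-- 3 × 3 matrices over the field with two elements. -/
abbrev M3 : Type := Matrix (Fin 3) (Fin 3) (ZMod 2)

/-- 6 × 6 matrices in block form. -/
abbrev M6 : Type := Matrix (Fin 3 ⊕ Fin 3) (Fin 3 ⊕ Fin 3) (ZMod 2)

/-- The symplectic group. -/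
abbrev Sp : Type := Matrix.symplecticGroup (Fin 3) (ZMod 2)

/-- The quadratic form describing the squares of the elements of the extraspecial group over the
unipotent radical of the stabiliser of a maximal totally isotropic subspace. -/
def q (M : M3) : ZMod 2 :=
  M 0 0 + M 1 1 + M 2 2 + M 0 0 * M 1 1 + M 0 0 * M 2 2 + M 1 1 * M 2 2
    + M 0 0 * M 1 2 + M 1 1 * M 0 2 + M 2 2 * M 0 1

/-- The polar form of `q`. -/
def bq (M N : M3) : ZMod 2 := q (M + N) + q M + q N

/-- The symmetric matrix with given entries. -/
def sm (a b c d e f : ZMod 2) : M3 := !![a, d, e; d, b, f; e, f, c]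

theorem eq_sm {M : M3} (hM : M.IsSymm) :
    M = sm (M 0 0) (M 1 1) (M 2 2) (M 0 1) (M 0 2) (M 1 2) := by
  have h1 := hM.apply 0 1
  have h2 := hM.apply 0 2
  have h3 := hM.apply 1 2
  ext i j
  fin_cases i <;> fin_cases j <;> simp [sm, h1, h2, h3]

/-- The matrix generating a field with 8 elements. -/
def M0 : M3 := !![1, 1, 0; 1, 0, 1; 0, 1, 0]

/-- Its square. -/
def M1 : M3 := !![0, 1, 1; 1, 0, 0; 1, 0, 1]

/-- An alternating matrix. -/
def Mv : M3 := !![0, 1, 1; 1, 0, 0; 1, 0, 0]

theorem M0_symm : M0.IsSymm := by decide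
theorem M1_symm : M1.IsSymm := by decide
theorem Mv_symm : Mv.IsSymm := by decide

/-- The unipotent element of the stabiliser of a maximal totally isotropic subspace. -/
def U (M : M3) : M6 := fromBlocks 1 M 0 1

theorem U_mem {M : M3} (hM : M.IsSymm) : U M ∈ symplecticGroup (Fin 3) (ZMod 2) := by
  rw [SymplecticGroup.mem_iff, U, J, fromBlocks_transpose, fromBlocks_multiply, fromBlocks_multiply]
  simp [hM.eq]

theorem U_mul (M N : M3) : U M * U N = U (M + N) := by
  rw [U, U, U, fromBlocks_multiply]
  simp [add_comm]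

theorem U_injective {M N : M3} (h : U M = U N) : M = N := by
  have := (fromBlocks_inj.mp h)
  exact this.2.1

theorem U_zero : U 0 = 1 := by rw [U, fromBlocks_one]

/-- The unipotent element in the symplectic group. -/
def US (M : M3) (hM : M.IsSymm) : Sp := ⟨U M, U_mem hM⟩

/-- Levi elements. -/
def V (A B : M3) : M6 := fromBlocks A 0 0 B

theorem V_mem {A B : M3} (h : A * Bᵀ = 1) : V A B ∈ symplecticGroup (Fin 3) (ZMod 2) := by
  have h2 : B * Aᵀ = 1 := by
    have := congrArg Matrix.transpose h
    rwa [transpose_mul, transpose_transpose, transpose_one] at this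
  rw [SymplecticGroup.mem_iff, V, J, fromBlocks_transpose, fromBlocks_multiply, fromBlocks_multiply]
  simp [h, h2]

/-- The elements of the centralizer of `U 1`. -/
theorem centralizer_form (X : Sp) (h : (X : M6) * U 1 = U 1 * (X : M6)) :
    ∃ A B : M3, (X : M6) = fromBlocks A B 0 A ∧ A * Aᵀ = 1 ∧ (B * Aᵀ).IsSymm := by
  obtain ⟨X, hX⟩ := X
  simp only at h
  rw [← fromBlocks_toBlocks X] at h hX
  set A := X.toBlocks₁₁
  set B := X.toBlocks₁₂
  set C := X.toBlocks₂₁
  set D := X.toBlocks₂₂
  rw [U, fromBlocks_multiply, fromBlocks_multiply, fromBlocks_inj] at h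
  simp only [mul_one, mul_zero, add_zero, one_mul, zero_mul, zero_add] at h
  obtain ⟨h1, h2, -, h4⟩ := h
  have hC : C = 0 := by
    have : A + C = A + 0 := by rw [← h1, add_zero]
    exact add_left_cancel this
  have hD : D = A := by
    have : A + B = D + B := by rw [h2, add_comm]
    exact (add_right_cancel this).symm
  refine ⟨A, B, ?_, ?_, ?_⟩
  · show X = _
    rw [← fromBlocks_toBlocks X]
    show fromBlocks A B C D = _
    rw [hC, hD]
  · rw [SymplecticGroup.mem_iff, hC, hD, J, fromBlocks_transpose, fromBlocks_multiply,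
      fromBlocks_multiply, fromBlocks_inj] at hX
    simpa using hX.2.2.1
  · rw [SymplecticGroup.mem_iff, hC, hD, J, fromBlocks_transpose, fromBlocks_multiply,
      fromBlocks_multiply, fromBlocks_inj] at hX
    have h5 := hX.1
    simp only [mul_zero, mul_one, zero_add, mul_neg, zero_mul, add_zero, neg_mul] at h5
    rw [Matrix.IsSymm, transpose_mul, transpose_transpose]
    have h6 : B * Aᵀ = A * Bᵀ := by
      have := add_eq_zero_iff_eq_neg.mp h5
      rw [this]; simp
    exact h6.symm

end Cfsg.Agent.SporRec.Co3
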