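import Cfsg.Agent.SporRec.Co3.Fusion
import Cfsg.Agent.SporRec.Co3.LineCode

/-!
# The pure elementary abelian subgroup of order 16 in groups of type `Co₃`

`ew i` (`i < 16`): words for the elements of `E = ⟨z, b, e₁, e₂⟩`. `exists_norm`: in a group of type `Co₃` some element
normalises `E` and moves `t`.
-/

set_option autoImplicit false

namespace Cfsg.Agent.SporRec.Co3.PureE

open Cfsg.Agent.SporRec.TwoSp6.Cox Cfsg.Agent.SporRec.TwoSp6.Sp Cfsg.Agent.SporRec.TwoSp6.Lift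
  Cfsg.Agent.SporRec.TwoSp6.Main Cfsg.Agent.SporRec.TwoSp6.Invol Cfsg.Agent.SporRec.TwoSp6.CInvol
  Cfsg.Agent.SporRec.TwoSp6.Model Cfsg.Agent.SporRec.TwoSp6.Order Cfsg.Agent.SporRec.Co3.Fusion
  Cfsg.Agent.SporRec.Co3.LineCode

/-- word of `b` -/
def wb : List ℕ := [1, 4, 6]

/-- word of `e₁` -/
def we1 : List ℕ := [0, 2, 0, 3, 1, 2, 3, 4, 3, 1, 2, 0, 3, 2, 6, 7]

/-- word of `e₂` -/
def we2 : List ℕ := [0, 2, 0, 4, 5, 4, 3, 1, 2, 3, 4, 5, 6, 5, 4, 3, 1, 2, 0, 3, 2, 4, 5]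

/-- words of the sixteen elements -/
def ew (i : ℕ) : List ℕ :=
  (bif i.testBit 0 then [7] else []) ++ ((bif i.testBit 1 then wb else []) ++
    ((bif i.testBit 2 then we1 else []) ++ (bif i.testBit 3 then we2 else [])))

/-- first code of the line -/
def lp (i : ℕ) : ℕ := [0, 16, 1, 17, 1, 16, 1, 17].getD (i / 2) 0

/-- second code of the line -/
def lq (i : ℕ) : ℕ := [0, 32, 32, 32, 16, 33, 48, 33].getD (i / 2) 0

theorem ew_line : ∀ i : Fin 16, 2 ≤ i.val → lp i < 64 ∧ lq i < 64 ∧ fF (lp i) (lq i) = false ∧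
    lineB (ew i) (lp i) (lq i) = true ∧ enc (lp i) ≠ 0 ∧ enc (lq i) ≠ 0 ∧ enc (lq i) ≠ enc (lp i) := by
  decide +kernel

theorem ew_mul : ∀ i j : Fin 16, wN (ew i ++ ew j) = wN (ew (i.val ^^^ j.val)) := by decide +kernel

theorem ew_ne : ∀ i : Fin 16, i ≠ 0 → wN (ew i) ≠ wN [] := by decide +kernel

/-- Check: lines in the plane. -/
def chk2 (c d : ℕ) : Bool :=
  fF c 16 || fF c 32 || fF c 1 || fF d 16 || fF d 32 || fF d 1 || c == 0 || d == 0 || c == d ||
    (List.range 8).any fun k => (1 ≤ k) && allB (fun x => Nat.beq (lineF c d x) (lineF (lp (2 * k)) (lq (2 * k)) x)) 64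

theorem chk2_all : allB (fun c => allB (fun d => chk2 c d) 64) 64 = true := by decide +kernel

/-- Check: pairs of points of the line. -/
theorem chk3 : ∀ c ∈ [16, 32, 48], ∀ d ∈ [16, 32, 48], c ≠ d →
    allB (fun x => Nat.beq (lineF c d x) (lineF 16 32 x)) 64 = true := by decide +kernel

theorem line_eq_of {c d c' d' : ℕ} (hc : c < 64) (hd : d < 64) (h : fF c d = false) (hc' : c' < 64) (hd' : d' < 64)
    (h' : fF c' d' = false) (hall : allB (fun x => Nat.beq (lineF c d x) (lineF c' d' x)) 64 = true) :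
    line (enc c) (enc d) = line (enc c') (enc d') := by
  apply act_ext
  intro x
  obtain ⟨k, hk, rfl⟩ := exists_enc x
  rw [line_enc hc hd hk h, line_enc hc' hd' hk h']
  exact congrArg enc (Nat.eq_of_beq_eq_true (allB_spec hall k hk))

section

variable {C : Type*} [Group C] {z : C} {π : C →* S} {a : Fin 7 → C}

/-- The set of all lifts of the involutions of the lines of `⟨enc 16, enc 32, enc 1⟩`. -/
def ESet (π : C →* S) (x : C) : Prop := π x = 1 ∨ ∃ p q : V, p ≠ 0 ∧ q ≠ 0 ∧ q ≠ p ∧ om p q = 0 ∧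
  (om p (enc 16) = 0 ∧ om p (enc 32) = 0 ∧ om p (enc 1) = 0) ∧
  (om q (enc 16) = 0 ∧ om q (enc 32) = 0 ∧ om q (enc 1) = 0) ∧ π x = line p q

theorem eC_mul (R : Rels z a) (hcard : Nat.card C = 2903040) {i j : ℕ} (hi : i < 16) (hj : j < 16) :
    wv a z (ew i) * wv a z (ew j) = wv a z (ew (i ^^^ j)) := by
  rw [← wv_append, wv_eq_iff R hcard]
  exact ew_mul ⟨i, hi⟩ ⟨j, hj⟩

theorem eC_zero : wv a z (ew 0) = 1 := rfl

theorem eC_one : wv a z (ew 1) = z := by
  have : ew 1 = [7] := by decide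
  rw [this, wv_cons, wv_nil, mul_one]
  rfl

theorem eC_ne (R : Rels z a) (hcard : Nat.card C = 2903040) {i : ℕ} (hi : i < 16) (h0 : i ≠ 0) :
    wv a z (ew i) ≠ 1 := by
  rw [← wv_nil a z, Ne, wv_eq_iff R hcard]
  exact ew_ne ⟨i, hi⟩ fun h => h0 (congrArg Fin.val h)

theorem eC_inj (R : Rels z a) (hcard : Nat.card C = 2903040) {i j : ℕ} (hi : i < 16) (hj : j < 16)
    (h : wv a z (ew i) = wv a z (ew j)) : i = j := by
  by_contra hne
  have h1 : i ^^^ j < 16 := Nat.xor_lt_two_pow (n := 4) hi hj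
  have h2 : i ^^^ j ≠ 0 := by
    rw [Ne, Nat.xor_eq_zero_iff]; exact hne
  apply eC_ne R hcard h1 h2
  rw [← eC_mul R hcard hi hj, h, eC_mul R hcard hj hj, Nat.xor_self, eC_zero]

theorem eC_line (N : NS z π) (ha : ∀ i, π (a i) = tr (v i)) {i : ℕ} (hi : i < 16) (h2 : 2 ≤ i) :
    π (wv a z (ew i)) = line (enc (lp i)) (enc (lq i)) := by
  obtain ⟨k1, k2, k3, k4, -⟩ := ew_line ⟨i, hi⟩ h2
  exact pi_eq ha N.map_z k1 k2 k3 k4

theorem eC_isA (N : NS z π) (ha : ∀ i, π (a i) = tr (v i)) {i : ℕ} (hi : i < 16) (h2 : 2 ≤ i) :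
    TwoSp6.CInvol.IsA π (wv a z (ew i)) := by
  obtain ⟨k1, k2, k3, k4, k5, k6, k7⟩ := ew_line ⟨i, hi⟩ h2
  exact ⟨_, _, k5, k6, k7, (om_eq_zero_iff k1 k2).2 k3, eC_line N ha hi h2⟩

/-- `ESet` is contained in `E`. -/
theorem ESet_sub (N : NS z π) (ha : ∀ i, π (a i) = tr (v i)) (R : Rels z a) (hcard : Nat.card C = 2903040) {x : C}
    (h : ESet π x) : ∃ i < 16, x = wv a z (ew i) := by
  rcases h with h | ⟨p, q, hp, hq, hne, ho, ⟨p1, p2, p3⟩, ⟨q1, q2, q3⟩, e⟩
  · rcases N.ker x h with h | h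
    · exact ⟨0, by norm_num, by rw [eC_zero, h]⟩
    · exact ⟨1, by norm_num, by rw [eC_one, h]⟩
  · obtain ⟨c, hc, rfl⟩ := exists_enc p
    obtain ⟨d, hd, rfl⟩ := exists_enc q
    rw [om_eq_zero_iff hc (by norm_num)] at p1 p2 p3
    rw [om_eq_zero_iff hd (by norm_num)] at q1 q2 q3
    rw [om_eq_zero_iff hc hd] at ho
    have k := allB_spec (allB_spec chk2_all c hc) d hd
    have hc0 : (c == 0) = false := by
      rw [beq_eq_false_iff_ne]
      rintro rfl
      exact hp enc_zero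
    have hd0 : (d == 0) = false := by
      rw [beq_eq_false_iff_ne]
      rintro rfl
      exact hq enc_zero
    have hcd : (c == d) = false := by
      rw [beq_eq_false_iff_ne]
      rintro rfl
      exact hne rfl
    unfold chk2 at k
    rw [p1, p2, p3, q1, q2, q3, hc0, hd0, hcd] at k
    simp only [Bool.false_or, List.any_eq_true, List.mem_range, Bool.and_eq_true, decide_eq_true_eq] at k
    obtain ⟨m, hm, hm1, hall⟩ := k
    have h16 : 2 * m < 16 := by omega
    have h2 : 2 ≤ 2 * m := by omega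
    obtain ⟨k1, k2, k3, -⟩ := ew_line ⟨2 * m, h16⟩ h2
    have e2 : π (wv a z (ew (2 * m))) = π x := by
      rw [e, eC_line N ha h16 h2]
      exact (line_eq_of hc hd ho k1 k2 k3 hall).symm
    rcases N.toExt.eq_or e2 with h | h
    · exact ⟨2 * m, h16, h⟩
    · refine ⟨1 ^^^ (2 * m), Nat.xor_lt_two_pow (n := 4) (by norm_num) h16, ?_⟩
      rw [h, ← eC_mul R hcard (by norm_num) h16, eC_one]

/-- Orthogonality of the lines of two involutions of type A whose product is of type A or in `{1, z}`. -/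
theorem orthAA (N : NS z π) {x y : C} {u w u' w' : V} (hu : u ≠ 0) (hw : w ≠ 0) (hne : w ≠ u) (ho : om u w = 0)
    (hx : π x = line u w) (hu' : u' ≠ 0) (hw' : w' ≠ 0) (hne' : w' ≠ u') (ho' : om u' w' = 0)
    (hy : π y = line u' w') (h : π (x * y) = 1 ∨ TwoSp6.CInvol.IsA π (x * y)) :
    om u u' = 0 ∧ om w u' = 0 ∧ om u w' = 0 ∧ om w w' = 0 := by
  apply orth_lines hu hw hne ho hu' hw' hne' ho'
  intro v
  rw [← inv_om (line_sq ho), ← act_mul, ← hx, ← hy, ← map_mul]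
  rcases h with h | ⟨p, q, -, -, -, h4, h5⟩
  · rw [h, act_one, om_self]
  · rw [h5]; exact line_alt h4 v

/-- Moving a plane through the line of `b` to the standard plane by an element commuting with `b`. -/
theorem exists_move (N : NS z π) {b : C} (hb : π b = line (enc 16) (enc 32)) {s : V}
    (hi : Ind (enc 16) (enc 32) s) (ho : om (enc 16) s = 0 ∧ om (enc 32) s = 0) :
    ∃ c : C, c * b * c⁻¹ = b ∧ act (π c) (enc 16) = enc 16 ∧ act (π c) (enc 32) = enc 32 ∧ act (π c) s = enc 1 := by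
  have hi1 : Ind (enc 16) (enc 32) (enc 1) := by decide +kernel
  have ho1 : om (enc 16) (enc 1) = 0 ∧ om (enc 32) (enc 1) = 0 :=
    ⟨(om_enc 16 1).trans (by decide), (om_enc 32 1).trans (by decide)⟩
  obtain ⟨g, g1, g2, g3⟩ := exists_fix_two hi ho hi1 ho1
  obtain ⟨c, rfl⟩ := N.surj g
  have h1 : π b = π (c * b * c⁻¹) := by
    rw [map_mul, map_mul, map_inv, hb, line_conj, g1, g2]
  rcases N.toExt.eq_or h1 with h | h
  · exact ⟨c, h, g1, g2, g3⟩
  · obtain ⟨d, hd⟩ := N.surj (tr (enc 1))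
    have o16 : om (enc 1) (enc 16) = 0 := by rw [om_symm]; exact ho1.1
    have o32 : om (enc 1) (enc 32) = 0 := by rw [om_symm]; exact ho1.2
    have hdb : d * b = z * (b * d) := by
      obtain ⟨i1, i2, i3, i4, i5, i6, i7⟩ := hi1
      exact NS.conj_three N i1 i2 (add_ne_zero' i3) i4 i5.symm i6.symm i7.symm o16 o32
        (by rw [om_add, o16, o32, add_zero]) hb hd
    refine ⟨d * c, ?_, ?_, ?_, ?_⟩
    · calc d * c * b * (d * c)⁻¹ = d * (c * b * c⁻¹) * d⁻¹ := by group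
        _ = d * z * b * d⁻¹ := by rw [h]; group
        _ = z * (d * b) * d⁻¹ := by rw [← N.z_comm d]; group
        _ = z * (z * (b * d)) * d⁻¹ := by rw [hdb]
        _ = (z * z) * b := by group
        _ = b := by rw [N.z_sq, one_mul]
    · rw [map_mul, act_mul, g1, hd, act_tr, om_symm, o16, zero_smul, add_zero]
    · rw [map_mul, act_mul, g2, hd, act_tr, om_symm, o32, zero_smul, add_zero]
    · rw [map_mul, act_mul, g3, hd, act_tr, om_self, zero_smul, add_zero]

end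

/-- **Some element of `G` normalises `E` and moves `t`.** -/
theorem exists_norm_aux {G : Type*} [Group G] [Finite G] (hO : Cfsg.oddCore G = ⊥) (hZ : Subgroup.center G = ⊥)
    {t : G} (ht : orderOf t = 2) {π : Subgroup.centralizer ({t} : Set G) →* S}
    {a : Fin 7 → Subgroup.centralizer ({t} : Set G)} (N : NS (tC t) π) (ha : ∀ i, π (a i) = tr (v i))
    (R : Rels (tC t) a) (hcard : Nat.card (Subgroup.centralizer ({t} : Set G)) = 2903040) :
    ∃ g : G, (∀ i < 16, ∃ j < 16, g⁻¹ * ((wv a (tC t) (ew i) : Subgroup.centralizer ({t} : Set G)) : G) * g =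
      ((wv a (tC t) (ew j) : Subgroup.centralizer ({t} : Set G)) : G)) ∧ g⁻¹ * t * g ≠ t := by
  set e : ℕ → Subgroup.centralizer ({t} : Set G) := fun i => wv a (tC t) (ew i) with he
  have e_mul : ∀ {i j : ℕ}, i < 16 → j < 16 → (e i : G) * e j = e (i ^^^ j) := fun hi hj =>
    congrArg Subtype.val (eC_mul R hcard hi hj)
  have e_inj : ∀ {i j : ℕ}, i < 16 → j < 16 → (e i : G) = e j → i = j := fun hi hj h =>
    eC_inj R hcard hi hj (Subtype.ext h)
  have e0 : (e 0 : G) = 1 := rfl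
  have e1 : (e 1 : G) = t := congrArg Subtype.val (eC_one (a := a) (z := tC t))
  have eA : ∀ {i : ℕ}, i < 16 → 2 ≤ i → InA π (e i : G) := fun hi h2 => ⟨(e _).2, eC_isA N ha hi h2⟩
  obtain ⟨h, h1, h2⟩ := swap ht hO hZ N (eA (i := 2) (by norm_num) le_rfl)
  -- the conjugates
  have conj_mul : ∀ {i j : ℕ}, i < 16 → j < 16 → (h * (e i : G) * h⁻¹) * (h * (e j : G) * h⁻¹) =
      h * (e (i ^^^ j) : G) * h⁻¹ := by
    intro i j hi hj
    rw [← e_mul hi hj]; group
  have hcent : ∀ {i : ℕ}, i < 16 → h * (e i : G) * h⁻¹ ∈ Subgroup.centralizer ({t} : Set G) := by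
    intro i hi
    have k : (h * (e i : G) * h⁻¹) * (h * (e 2 : G) * h⁻¹) = (h * (e 2 : G) * h⁻¹) * (h * (e i : G) * h⁻¹) := by
      rw [conj_mul hi (by norm_num), conj_mul (by norm_num) hi, Nat.xor_comm]
    rw [h2] at k
    exact mem_cent.2 k
  set f : ℕ → Subgroup.centralizer ({t} : Set G) := fun i => if hi : i < 16 then ⟨h * (e i : G) * h⁻¹, hcent hi⟩ else 1
    with hf
  have fv : ∀ {i : ℕ}, i < 16 → (f i : G) = h * (e i : G) * h⁻¹ := by
    intro i hi
    rw [hf]; simp only [dif_pos hi]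
  have f_mul : ∀ {i j : ℕ}, i < 16 → j < 16 → f i * f j = f (i ^^^ j) := by
    intro i j hi hj
    apply Subtype.ext
    rw [Subgroup.coe_mul, fv hi, fv hj, fv (Nat.xor_lt_two_pow (n := 4) hi hj), conj_mul hi hj]
  have f_inj : ∀ {i j : ℕ}, i < 16 → j < 16 → f i = f j → i = j := by
    intro i j hi hj hij
    apply e_inj hi hj
    have := congrArg Subtype.val hij
    rw [fv hi, fv hj] at this
    exact mul_left_cancel (mul_right_cancel this)
  have f0 : f 0 = 1 := by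
    apply Subtype.ext
    rw [fv (by norm_num), e0]; simp
  have f2 : f 2 = tC t := by
    apply Subtype.ext
    rw [fv (by norm_num), h2]; rfl
  have f1 : f 1 = e 2 := by
    apply Subtype.ext
    rw [fv (by norm_num), e1, h1]
  have fA : ∀ {i : ℕ}, i < 16 → i ≠ 0 → i ≠ 2 → TwoSp6.CInvol.IsA π (f i) := by
    intro i hi h0 h2'
    have hcj : ∃ g : G, g * t * g⁻¹ = (f i : G) := by
      rcases Nat.lt_or_ge i 2 with h3 | h3
      · have : i = 1 := by omega
        subst this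
        exact ⟨h, by rw [fv (by norm_num), e1]⟩
      · obtain ⟨g, hg⟩ := fused_A ht hO hZ N (eA hi h3)
        exact ⟨h * g, by rw [fv hi, ← hg]; group⟩
    obtain ⟨g, hg⟩ := hcj
    have hc : (g * t * g⁻¹) * t = t * (g * t * g⁻¹) := by rw [hg]; exact mem_cent.1 (f i).2
    rcases fused_cases N hc with h3 | ⟨h3, h4⟩
    · exfalso
      apply h2'
      apply f_inj hi (by norm_num)
      rw [f2]
      exact Subtype.ext (by rw [← hg]; exact h3)
    · have : (⟨g * t * g⁻¹, h3⟩ : Subgroup.centralizer ({t} : Set G)) = f i := Subtype.ext hg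
      rw [← this]; exact h4
  -- lines
  have hlines : ∀ i : ℕ, ∃ p q : V, (i < 16 ∧ i ≠ 0 ∧ i ≠ 2) → (p ≠ 0 ∧ q ≠ 0 ∧ q ≠ p ∧ om p q = 0 ∧
      π (f i) = line p q) := by
    intro i
    by_cases hi : i < 16 ∧ i ≠ 0 ∧ i ≠ 2
    · obtain ⟨p, q, h3, h4, h5, h6, h7⟩ := fA hi.1 hi.2.1 hi.2.2
      exact ⟨p, q, fun _ => ⟨h3, h4, h5, h6, h7⟩⟩
    · exact ⟨0, 0, fun h => absurd h hi⟩
  choose P Q hPQ using hlines
  have hprod : ∀ {i j : ℕ}, i < 16 → j < 16 → π (f i * f j) = 1 ∨ TwoSp6.CInvol.IsA π (f i * f j) := by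
    intro i j hi hj
    rw [f_mul hi hj]
    by_cases h3 : i ^^^ j = 0
    · left; rw [h3, f0, map_one]
    by_cases h4 : i ^^^ j = 2
    · left; rw [h4, f2, N.map_z]
    · exact Or.inr (fA (Nat.xor_lt_two_pow (n := 4) hi hj) h3 h4)
  have horth : ∀ {i j : ℕ}, (i < 16 ∧ i ≠ 0 ∧ i ≠ 2) → (j < 16 ∧ j ≠ 0 ∧ j ≠ 2) →
      om (P i) (P j) = 0 ∧ om (Q i) (P j) = 0 ∧ om (P i) (Q j) = 0 ∧ om (Q i) (Q j) = 0 := by
    intro i j hi hj
    obtain ⟨a1, a2, a3, a4, a5⟩ := hPQ i hi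
    obtain ⟨b1, b2, b3, b4, b5⟩ := hPQ j hj
    exact orthAA N a1 a2 a3 a4 a5 b1 b2 b3 b4 b5 (hprod hi.1 hj.1)
  have hline2 : π (e 2) = line (enc 16) (enc 32) := eC_line N ha (by norm_num) le_rfl
  have horthb : ∀ {j : ℕ}, (j < 16 ∧ j ≠ 0 ∧ j ≠ 2) →
      om (enc 16) (P j) = 0 ∧ om (enc 32) (P j) = 0 ∧ om (enc 16) (Q j) = 0 ∧ om (enc 32) (Q j) = 0 := by
    intro j hj
    obtain ⟨b1, b2, b3, b4, b5⟩ := hPQ j hj
    exact orthAA N (u := enc 16) (w := enc 32) (by decide +kernel) (by decide +kernel) (by decide +kernel)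
      ((om_enc 16 32).trans (by decide)) (by rw [f1]; exact hline2) b1 b2 b3 b4 b5 (hprod (i := 1) (by norm_num) hj.1)
  -- a vector outside the line of `b`
  have h4c : 4 < 16 ∧ 4 ≠ 0 ∧ 4 ≠ 2 := by norm_num
  obtain ⟨o1, o2, o3, o4⟩ := horthb h4c
  obtain ⟨p0, q0, qp, pq, e4⟩ := hPQ 4 h4c
  have hs : ∃ s, (s = P 4 ∨ s = Q 4) ∧ s ≠ enc 16 ∧ s ≠ enc 32 ∧ s ≠ enc 16 + enc 32 := by
    by_contra hcon
    push Not at hcon
    have key : ∀ s, (s = P 4 ∨ s = Q 4) → ∃ c ∈ [16, 32, 48], s = enc c := by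
      intro s hs
      by_cases h3 : s = enc 16
      · exact ⟨16, by simp, h3⟩
      by_cases h4 : s = enc 32
      · exact ⟨32, by simp, h4⟩
      · refine ⟨48, by simp, ?_⟩
        rw [hcon s hs h3 h4, ← enc_xor]
        have e48 : (16 ^^^ 32 : ℕ) = 48 := by decide
        rw [e48]
    obtain ⟨c, hc, ec⟩ := key _ (Or.inl rfl)
    obtain ⟨d, hd, ed⟩ := key _ (Or.inr rfl)
    have lt : ∀ c ∈ [16, 32, 48], c < 64 := by decide
    have hcd : c ≠ d := by
      rintro rfl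
      exact qp (by rw [ec, ed])
    have hall := chk3 c hc d hd hcd
    have hff : fF c d = false := by
      rw [← om_eq_zero_iff (lt c hc) (lt d hd), ← ec, ← ed]; exact pq
    have e5 : π (f 1) = π (f 4) := by
      rw [e4, ec, ed, line_eq_of (lt c hc) (lt d hd) hff (by norm_num) (by norm_num) (by decide +kernel) hall, f1,
        hline2]
    rcases N.toExt.eq_or e5 with h3 | h3
    · exact absurd (f_inj (by norm_num) (by norm_num) h3) (by norm_num)
    · rw [← f2, f_mul (by norm_num) (by norm_num)] at h3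
      exact absurd (f_inj (by norm_num) (by norm_num) h3) (by decide)
  obtain ⟨s, hs, s1, s2, s3⟩ := hs
  have hs0 : s ≠ 0 := by
    rcases hs with rfl | rfl
    · exact p0
    · exact q0
  have hso : om (enc 16) s = 0 ∧ om (enc 32) s = 0 := by
    rcases hs with rfl | rfl
    · exact ⟨o1, o2⟩
    · exact ⟨o3, o4⟩
  have hind : Ind (enc 16) (enc 32) s :=
    ⟨by decide +kernel, by decide +kernel, by decide +kernel, hs0, s1, s2, s3⟩
  obtain ⟨c, c1, c2, c3, c4⟩ := exists_move N hline2 hind hso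
  have horths : ∀ {j : ℕ}, (j < 16 ∧ j ≠ 0 ∧ j ≠ 2) → om (P j) s = 0 ∧ om (Q j) s = 0 := by
    intro j hj
    obtain ⟨k1, k2, k3, k4⟩ := horth hj h4c
    rcases hs with rfl | rfl
    · exact ⟨k1, k2⟩
    · exact ⟨k3, k4⟩
  refine ⟨((c : G) * h)⁻¹, ?_, ?_⟩
  · intro i hi
    have hE : ESet π (c * f i * c⁻¹) := by
      by_cases h3 : i = 0
      · left; rw [h3, f0]; simp
      by_cases h4 : i = 2
      · left
        rw [h4, f2, map_mul, map_mul, N.map_z, mul_one, map_inv, mul_inv_cancel]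
      · right
        have hj : i < 16 ∧ i ≠ 0 ∧ i ≠ 2 := ⟨hi, h3, h4⟩
        obtain ⟨b1, b2, b3, b4, b5⟩ := hPQ i hj
        obtain ⟨k1, k2, k3, k4⟩ := horthb hj
        obtain ⟨l1, l2⟩ := horths hj
        refine ⟨act (π c) (P i), act (π c) (Q i), act_ne b1, act_ne b2, fun h => b3 (act_inj h),
          by rw [act_om]; exact b4, ⟨?_, ?_, ?_⟩, ⟨?_, ?_, ?_⟩, ?_⟩
        · rw [← c2, act_om, om_symm]; exact k1
        · rw [← c3, act_om, om_symm]; exact k2
        · rw [← c4, act_om]; exact l1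
        · rw [← c2, act_om, om_symm]; exact k3
        · rw [← c3, act_om, om_symm]; exact k4
        · rw [← c4, act_om]; exact l2
        · rw [map_mul, map_mul, map_inv, b5, line_conj]
    obtain ⟨j, hj, ej⟩ := ESet_sub N ha R hcard hE
    refine ⟨j, hj, ?_⟩
    have := congrArg Subtype.val ej
    rw [Subgroup.coe_mul, Subgroup.coe_mul, Subgroup.coe_inv, fv hi] at this
    rw [← this, inv_inv]
    show (c : G) * h * (e i : G) * ((c : G) * h)⁻¹ = _
    group
  · rw [inv_inv]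
    have e3 : (c : G) * h * t * ((c : G) * h)⁻¹ = (e 2 : G) := by
      have := congrArg Subtype.val c1
      rw [Subgroup.coe_mul, Subgroup.coe_mul, Subgroup.coe_inv] at this
      calc (c : G) * h * t * ((c : G) * h)⁻¹ = (c : G) * (h * t * h⁻¹) * (c : G)⁻¹ := by group
        _ = (e 2 : G) := by rw [h1]; exact this
    rw [e3]
    exact InA.ne_t N (eA (by norm_num) le_rfl)

/-- The output in terms of the model. -/
theorem exists_norm {G : Type*} [Group G] [Finite G] (hO : Cfsg.oddCore G = ⊥) (hZ : Subgroup.center G = ⊥)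
    (t : G) (ht : orderOf t = 2)
    (hC : Cfsg.IsNonsplitDoubleCover (Subgroup.centralizer ({t} : Set G))
      (Matrix.symplecticGroup (Fin 3) (ZMod 2))) :
    ∃ (π : Subgroup.centralizer ({t} : Set G) →* S) (e : M ≃* Subgroup.centralizer ({t} : Set G)),
      NS (tC t) π ∧ e z = tC t ∧ (∀ i, π (e (gen i)) = tr (v i)) ∧
      ∃ g : G, (∀ i < 16, ∃ j < 16, g⁻¹ * (e (wv gen z (ew i)) : G) * g = (e (wv gen z (ew j)) : G)) ∧
        g⁻¹ * t * g ≠ t := by
  obtain ⟨π, a, N, ha, R, hcard⟩ := exists_NS t ht hC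
  obtain ⟨e, he, hz⟩ := card_Sp_transfer R hcard
  obtain ⟨g, hg, hgt⟩ := exists_norm_aux hO hZ ht N ha R hcard
  refine ⟨π, e, N, hz, fun i => by rw [he, ha], g, ?_, hgt⟩
  intro i hi
  obtain ⟨j, hj, hij⟩ := hg i hi
  refine ⟨j, hj, ?_⟩
  have hw : ∀ w, e (wv gen z w) = wv a (tC t) w := fun w => map_wv e.toMonoidHom he hz w
  rw [hw, hw]
  exact hij

/-- The output for helper192: an injective homomorphism of the model onto the centraliser. -/
theorem exists_phi {G : Type*} [Group G] [Finite G] (hO : Cfsg.oddCore G = ⊥) (hZ : Subgroup.center G = ⊥)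
    (t : G) (ht : orderOf t = 2)
    (hC : Cfsg.IsNonsplitDoubleCover (Subgroup.centralizer ({t} : Set G))
      (Matrix.symplecticGroup (Fin 3) (ZMod 2))) :
    ∃ phi : M →* G, Function.Injective phi ∧ phi z = t ∧ (∀ g, g * phi z = phi z * g → ∃ x, phi x = g) ∧
      ∃ g : G, (∀ i < 16, ∃ j < 16, g⁻¹ * phi (wv gen z (ew i)) * g = phi (wv gen z (ew j))) ∧
        g⁻¹ * phi z * g ≠ phi z := by
  obtain ⟨π, e, -, hz, -, g, hg, hgt⟩ := exists_norm hO hZ t ht hC
  have hz' : (Subgroup.centralizer ({t} : Set G)).subtype (e z) = t := by rw [hz]; rfl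
  refine ⟨(Subgroup.centralizer ({t} : Set G)).subtype.comp e.toMonoidHom, ?_, hz', ?_, g, hg, ?_⟩
  · exact (Subgroup.subtype_injective _).comp e.injective
  · intro x hx
    have h1 : x * t = t * x := by
      have : (((Subgroup.centralizer ({t} : Set G)).subtype.comp e.toMonoidHom) z) = t := hz'
      rwa [this] at hx
    refine ⟨e.symm ⟨x, mem_cent.2 h1⟩, ?_⟩
    show ((e (e.symm ⟨x, mem_cent.2 h1⟩) : Subgroup.centralizer ({t} : Set G)) : G) = x
    rw [MulEquiv.apply_symm_apply]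
  · have : (((Subgroup.centralizer ({t} : Set G)).subtype.comp e.toMonoidHom) z) = t := hz'
    rw [this]; exact hgt

end Cfsg.Agent.SporRec.Co3.PureE
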